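import Mathlib

/-!
# Filling horns in simplicial abelian groups
-/

set_option autoImplicit false

universe u

namespace Groth.AbFill

open CategoryTheory Opposite Simplicial

variable {X Y : SimplicialObject AddCommGrpCat.{u}} (f : X ⟶ Y)

/-- The value of the kernel of a map in one degree. -/
abbrev InKer {n : SimplexCategoryᵒᵖ} (x : X.obj n) : Prop := f.app n x = 0

theorem inKer_map {n n' : SimplexCategoryᵒᵖ} (φ : n ⟶ n') {x : X.obj n} (hx : InKer f x) :
    InKer f (X.map φ x) := by
  change f.app n' (X.map φ x) = 0
  rw [NatTrans.naturality_apply f φ x, show f.app n x = 0 from hx, map_zero]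

theorem inKer_add {n : SimplexCategoryᵒᵖ} {x y : X.obj n} (hx : InKer f x) (hy : InKer f y) :
    InKer f (x + y) := by
  change f.app n (x + y) = 0
  rw [map_add, show f.app n x = 0 from hx, show f.app n y = 0 from hy, add_zero]

theorem inKer_sub {n : SimplexCategoryᵒᵖ} {x y : X.obj n} (hx : InKer f x) (hy : InKer f y) :
    InKer f (x - y) := by
  change f.app n (x - y) = 0
  rw [map_sub, show f.app n x = 0 from hx, show f.app n y = 0 from hy, sub_zero]

/-- Compatibility of a family of faces, the `k`-th excepted. -/
def Compat {m : ℕ} (k : Option (Fin (m + 3))) (x : Fin (m + 3) → X.obj (op ⦋m + 1⦌)) : Prop :=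
  ∀ i j : Fin (m + 2), i ≤ j → k ≠ some i.castSucc → k ≠ some j.succ →
    X.δ i (x j.succ) = X.δ j (x i.castSucc)

theorem up {m : ℕ} (k : Fin (m + 3)) (x : Fin (m + 3) → X.obj (op ⦋m + 1⦌))
    (hx : ∀ i, i ≠ k → InKer f (x i)) (hc : Compat (some k) x) :
    ∀ l : ℕ, l ≤ k → ∃ w : X.obj (op ⦋m + 2⦌), InKer f w ∧
      ∀ i : Fin (m + 3), (i : ℕ) < l → X.δ i w = x i := by
  intro l
  induction l with
  | zero => exact fun _ => ⟨0, map_zero _, fun i hi => absurd hi (Nat.not_lt_zero _)⟩
  | succ l ih =>
    intro hl
    obtain ⟨w, hw, hwx⟩ := ih (by omega)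
    have hl2 : l < m + 2 := by omega
    let i : Fin (m + 3) := ⟨l, by omega⟩
    let p : Fin (m + 2) := ⟨l, hl2⟩
    have hip : i = p.castSucc := rfl
    have hik : i ≠ k := by
      intro e
      have : (i : ℕ) = k := congrArg Fin.val e
      simp only [i] at this
      omega
    refine ⟨w + X.σ p (x i - X.δ i w),
      inKer_add f hw (inKer_map f _ (inKer_sub f (hx i hik) (inKer_map f _ hw))), fun j hj => ?_⟩
    rw [map_add]
    by_cases hji : (j : ℕ) = l
    · obtain rfl : j = i := Fin.ext hji
      have := ConcreteCategory.congr_hom (X.δ_comp_σ_self (i := p)) (x i - X.δ i w)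
      simp only [← hip] at this
      change X.δ i (X.σ p _) = _ at this
      rw [this]
      exact add_sub_cancel _ _
    · have hjl : (j : ℕ) < l := by omega
      have hj2 : (j : ℕ) < m + 2 := by omega
      let a : Fin (m + 2) := ⟨j, hj2⟩
      let p' : Fin (m + 1) := ⟨l - 1, by omega⟩
      have hp' : p = p'.succ := Fin.ext (by simp [p, p']; omega)
      have ha : j = a.castSucc := rfl
      have hap : a ≤ p'.castSucc := by
        rw [Fin.le_iff_val_le_val]; simp [a, p']; omega
      have := ConcreteCategory.congr_hom (X.δ_comp_σ_of_le hap) (x i - X.δ i w)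
      rw [← ha, ← hp'] at this
      change X.δ j (X.σ p _) = X.σ p' (X.δ a _) at this
      rw [this, map_sub (X.δ a).hom]
      have h1 : X.δ a (x i) = X.δ p'.castSucc (x j) := by
        have hsucc : p'.castSucc.succ = i := Fin.ext (by simp [i, p']; omega)
        have := hc a p'.castSucc hap
          (fun e => by
            have := congrArg Fin.val (Option.some.inj e)
            simp [a] at this
            omega)
          (fun e => hik (by rw [← hsucc]; exact (Option.some.inj e).symm))
        rwa [hsucc, ← ha] at this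
      have h2 : X.δ a (X.δ i w) = X.δ p'.castSucc (X.δ j w) := by
        have hsucc : p'.castSucc.succ = i := Fin.ext (by simp [i, p']; omega)
        have := ConcreteCategory.congr_hom (X.δ_comp_δ hap) w
        rw [hsucc, ← ha] at this
        exact this
      rw [h1, h2, hwx j hjl, sub_self, map_zero, add_zero]

/-- Horn filling in positive dimension, inside a kernel. -/
theorem fill {m : ℕ} (k : Fin (m + 3)) (x : Fin (m + 3) → X.obj (op ⦋m + 1⦌))
    (hx : ∀ i, i ≠ k → InKer f (x i)) (hc : Compat (some k) x) :
    ∃ w : X.obj (op ⦋m + 2⦌), InKer f w ∧ ∀ i, i ≠ k → X.δ i w = x i := by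
  suffices h : ∀ l : ℕ, l ≤ m + 2 - k → ∃ w : X.obj (op ⦋m + 2⦌), InKer f w ∧
      ∀ i : Fin (m + 3), ((i : ℕ) < k ∨ m + 3 - l ≤ (i : ℕ)) → X.δ i w = x i by
    obtain ⟨w, hw, hwx⟩ := h (m + 2 - k) le_rfl
    refine ⟨w, hw, fun i hi => hwx i ?_⟩
    have : (i : ℕ) ≠ k := fun e => hi (Fin.ext e)
    omega
  intro l
  induction l with
  | zero =>
    intro _
    obtain ⟨w, hw, hwx⟩ := up f k x hx hc k le_rfl
    exact ⟨w, hw, fun i hi => hwx i (by omega)⟩
  | succ l ih =>
    intro hl
    obtain ⟨w, hw, hwx⟩ := ih (by omega)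
    let i : Fin (m + 3) := ⟨m + 2 - l, by omega⟩
    let p : Fin (m + 2) := ⟨m + 1 - l, by omega⟩
    have hip : i = p.succ := Fin.ext (by simp [i, p]; omega)
    have hik : i ≠ k := by
      intro e
      have : (i : ℕ) = k := congrArg Fin.val e
      simp only [i] at this
      omega
    refine ⟨w + X.σ p (x i - X.δ i w),
      inKer_add f hw (inKer_map f _ (inKer_sub f (hx i hik) (inKer_map f _ hw))), fun j hj => ?_⟩
    rw [map_add]
    by_cases hji : (j : ℕ) = m + 2 - l
    · obtain rfl : j = i := Fin.ext hji
      have := ConcreteCategory.congr_hom (X.δ_comp_σ_succ (i := p)) (x i - X.δ i w)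
      simp only [← hip] at this
      change X.δ i (X.σ p _) = _ at this
      rw [this]
      exact add_sub_cancel _ _
    · have hjk : (j : ℕ) ≠ k := by omega
      rcases hj with hjlt | hjgt
      · -- below `k`
        let a : Fin (m + 2) := ⟨j, by omega⟩
        let p' : Fin (m + 1) := ⟨m - l, by omega⟩
        have hp' : p = p'.succ := Fin.ext (by simp [p, p']; omega)
        have ha : j = a.castSucc := rfl
        have hap : a ≤ p'.castSucc := by
          rw [Fin.le_iff_val_le_val]; simp [a, p']; omega
        let b : Fin (m + 2) := p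
        have hab : a ≤ b := by
          rw [Fin.le_iff_val_le_val]; simp [a, b, p]; omega
        have := ConcreteCategory.congr_hom (X.δ_comp_σ_of_le hap) (x i - X.δ i w)
        rw [← ha, ← hp'] at this
        change X.δ j (X.σ p _) = X.σ p' (X.δ a _) at this
        rw [this, map_sub (X.δ a).hom]
        have h1 : X.δ a (x i) = X.δ b (x j) := by
          have := hc a b hab
            (fun e => hjk (congrArg Fin.val (Option.some.inj e)).symm)
            (fun e => hik (by rw [hip]; exact (Option.some.inj e).symm))
          rwa [← hip, ← ha] at this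
        have h2 : X.δ a (X.δ i w) = X.δ b (X.δ j w) := by
          have := ConcreteCategory.congr_hom (X.δ_comp_δ hab) w
          rw [← hip, ← ha] at this
          exact this
        rw [h1, h2, hwx j (Or.inl hjlt), sub_self, map_zero, add_zero]
      · -- above the current face
        have hgt : m + 2 - l < (j : ℕ) := by omega
        let c : Fin (m + 2) := ⟨(j : ℕ) - 1, by omega⟩
        let p' : Fin (m + 1) := ⟨m + 1 - l, by omega⟩
        have hp' : p = p'.castSucc := rfl
        have hcj : c.succ = j := Fin.ext (by simp [c]; omega)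
        have hpc : p'.castSucc < c := by
          rw [Fin.lt_def]; simp [p', c]; omega
        have := ConcreteCategory.congr_hom (X.δ_comp_σ_of_gt hpc) (x i - X.δ i w)
        rw [← hp', hcj] at this
        change X.δ j (X.σ p _) = X.σ p' (X.δ c _) at this
        rw [this, map_sub (X.δ c).hom]
        let a : Fin (m + 2) := ⟨m + 2 - l, by omega⟩
        have ha : i = a.castSucc := rfl
        have hac : a ≤ c := by
          rw [Fin.le_iff_val_le_val]; simp [a, c]; omega
        have h1 : X.δ c (x i) = X.δ a (x j) := by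
          have := hc a c hac (fun e => hik (by rw [ha]; exact (Option.some.inj e).symm))
            (fun e => hjk (by rw [← hcj]; exact (congrArg Fin.val (Option.some.inj e)).symm))
          rw [hcj, ← ha] at this
          exact this.symm
        have h2 : X.δ c (X.δ i w) = X.δ a (X.δ j w) := by
          have := ConcreteCategory.congr_hom (X.δ_comp_δ hac) w
          rw [hcj, ← ha] at this
          exact this.symm
        rw [h1, h2, hwx j (Or.inr (by omega)), sub_self, map_zero, add_zero]

theorem fill_one (k : Fin 2) (x : Fin 2 → X.obj (op ⦋0⦌)) (hx : ∀ i, i ≠ k → InKer f (x i)) :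
    ∃ w : X.obj (op ⦋1⦌), InKer f w ∧ ∀ i, i ≠ k → X.δ i w = x i := by
  have h₁ : ∀ k : Fin 2, k.rev ≠ k := by decide
  have h₂ : ∀ k i : Fin 2, i ≠ k → i = k.rev := by decide
  have h₃ : ∀ k : Fin 2, k = (0 : Fin 1).castSucc ∨ k = (0 : Fin 1).succ := by decide
  refine ⟨X.σ 0 (x k.rev), inKer_map f _ (hx _ (h₁ k)), fun i hi => ?_⟩
  obtain rfl : i = k.rev := h₂ k i hi
  have hk := h₃ k.rev
  rcases hk with e | e
  · rw [e]
    exact ConcreteCategory.congr_hom (X.δ_comp_σ_self (i := (0 : Fin 1))) _
  · rw [e]
    exact ConcreteCategory.congr_hom (X.δ_comp_σ_succ (i := (0 : Fin 1))) _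

end Groth.AbFill
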