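import Mathlib

/-!
# Morphisms into coskeletal simplicial sets; homotopies
-/

set_option autoImplicit false

universe u v

namespace Groth.Cosk

open CategoryTheory Opposite MonoidalCategory Simplicial

variable {C : Type u} [Category.{v} C] {n : ℕ}

/-- Morphisms into a coskeletal object are morphisms of truncations. -/
noncomputable def homEquiv (U W : SimplicialObject C) [SimplicialObject.IsCoskeletal U n] :
    (W ⟶ U) ≃ ((SimplexCategory.Truncated.inclusion n).op ⋙ W ⟶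
      (SimplexCategory.Truncated.inclusion n).op ⋙ U) :=
  Functor.homEquivOfIsRightKanExtension U (𝟙 _) W

theorem homEquiv_app {U W : SimplicialObject C} [SimplicialObject.IsCoskeletal U n] (φ : W ⟶ U)
    (k : (SimplexCategory.Truncated n)ᵒᵖ) :
    (homEquiv (n := n) U W φ).app k = φ.app ((SimplexCategory.Truncated.inclusion n).op.obj k) := by
  simp [homEquiv, Functor.homEquivOfIsRightKanExtension]

theorem hom_ext {U W : SimplicialObject C} [SimplicialObject.IsCoskeletal U n] {φ ψ : W ⟶ U}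
    (h : ∀ k : ℕ, k ≤ n → φ.app (op ⦋k⦌) = ψ.app (op ⦋k⦌)) : φ = ψ := by
  apply (homEquiv (n := n) U W).injective
  ext k
  rw [homEquiv_app, homEquiv_app]
  exact h k.unop.1.len k.unop.2

theorem exists_hom {U W : SimplicialObject C} [SimplicialObject.IsCoskeletal U n]
    (φ : ∀ k : ℕ, k ≤ n → (W.obj (op ⦋k⦌) ⟶ U.obj (op ⦋k⦌)))
    (hφ : ∀ (k l : ℕ) (hk : k ≤ n) (hl : l ≤ n) (θ : ⦋l⦌ ⟶ ⦋k⦌),
      W.map θ.op ≫ φ l hl = φ k hk ≫ U.map θ.op) :
    ∃ Φ : W ⟶ U, ∀ k hk, Φ.app (op ⦋k⦌) = φ k hk := by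
  let τ : (SimplexCategory.Truncated.inclusion n).op ⋙ W ⟶
      (SimplexCategory.Truncated.inclusion n).op ⋙ U :=
    { app := fun k => φ k.unop.1.len k.unop.2
      naturality := fun a b θ => hφ _ _ _ _ θ.unop.hom }
  refine ⟨(homEquiv (n := n) U W).symm τ, fun k hk => ?_⟩
  have := congrArg (fun z => z.app (op (⟨⦋k⦌, hk⟩ : SimplexCategory.Truncated n)))
    ((homEquiv (n := n) U W).apply_symm_apply τ)
  simp only [homEquiv_app] at this
  exact this

/-- A map of the simplex category between objects of dimension at most `n` is trivial or factors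
through dimension less than `n`. -/
theorem eq_id_or_lt {k l : ℕ} (hk : k ≤ n) (hl : l ≤ n) (θ : (⦋l⦌ : SimplexCategory) ⟶ ⦋k⦌) :
    k < n ∨ l < n ∨ (∃ h : l = k, θ = eqToHom (by rw [h])) ∨
      ∃ (r : ℕ) (p : (⦋l⦌ : SimplexCategory) ⟶ ⦋r⦌) (q : (⦋r⦌ : SimplexCategory) ⟶ ⦋k⦌),
        r < n ∧ p ≫ q = θ := by
  rcases hk.lt_or_eq with h | rfl
  · exact .inl h
  rcases hl.lt_or_eq with h | rfl
  · exact .inr (.inl h)
  by_cases hm : Mono θ
  · exact .inr (.inr (.inl ⟨rfl, SimplexCategory.eq_id_of_mono θ⟩))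
  · refine .inr (.inr (.inr ?_))
    rw [SimplexCategory.mono_iff_injective] at hm
    cases l with
    | zero => exact absurd (fun a b _ => Subsingleton.elim (α := Fin 1) a b) hm
    | succ r =>
      obtain ⟨i, θ', rfl⟩ := SimplexCategory.eq_σ_comp_of_not_injective θ hm
      exact ⟨r, SimplexCategory.σ i, θ', Nat.lt_succ_self r, rfl⟩

/-- Simplicial maps agreeing below `n` agree on simplices coming through lower dimensions. -/
theorem agree_map {U V : SSet.{u}} (f₀ f₁ : V ⟶ U)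
    (h : ∀ i : ℕ, i < n → f₀.app (op ⦋i⦌) = f₁.app (op ⦋i⦌)) {k l : ℕ} (hk : k ≤ n) (hl : l ≤ n)
    (θ : (⦋l⦌ : SimplexCategory) ⟶ ⦋k⦌) (hθ : ¬ ∃ e : l = k, θ = eqToHom (by rw [e]))
    (x : V.obj (op ⦋k⦌)) : f₀.app _ (V.map θ.op x) = f₁.app _ (V.map θ.op x) := by
  rcases eq_id_or_lt hk hl θ with h' | h' | h' | ⟨r, p, q, hr, rfl⟩
  · rw [NatTrans.naturality_apply f₀, NatTrans.naturality_apply f₁, h k h']
  · rw [h l h']
  · exact absurd h' hθ
  · simp only [op_comp, Functor.map_comp, types_comp_apply]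
    rw [NatTrans.naturality_apply f₀, NatTrans.naturality_apply f₁, h r hr]

open Classical in
/-- Maps between coskeletal simplicial sets agreeing below `n` are homotopic. -/
theorem nonempty_homotopy {U V : SSet.{u}} (f₀ f₁ : V ⟶ U)
    (h : ∀ i : ℕ, i < n → f₀.app (op ⦋i⦌) = f₁.app (op ⦋i⦌))
    [SimplicialObject.IsCoskeletal U n] : Nonempty (SSet.Homotopy f₀ f₁) := by
  let φ : ∀ k : ℕ, k ≤ n → ((V ⊗ Δ[1] : SSet.{u}).obj (op ⦋k⦌) ⟶ U.obj (op ⦋k⦌)) := fun k _ =>
    ↾fun z => if z.2 = SSet.stdSimplex.const 1 0 (op ⦋k⦌) then f₀.app _ z.1 else f₁.app _ z.1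
  obtain ⟨Φ, hΦ⟩ := exists_hom (n := n) (U := U) (W := (V ⊗ Δ[1] : SSet.{u})) φ (by
    intro k l hk hl θ
    ext z
    by_cases hθ : ∃ e : l = k, θ = eqToHom (by rw [e])
    · obtain ⟨rfl, rfl⟩ := hθ
      simp only [eqToHom_refl, op_id, CategoryTheory.Functor.map_id]
      rfl
    have ha := agree_map f₀ f₁ h hk hl θ hθ z.1
    have l1 : ((V ⊗ Δ[1] : SSet.{u}).map θ.op ≫ φ l hl) z = f₀.app _ (V.map θ.op z.1) := by
      change (if (Δ[1] : SSet.{u}).map θ.op z.2 = _ then f₀.app _ (V.map θ.op z.1)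
        else f₁.app _ (V.map θ.op z.1)) = _
      split_ifs
      · rfl
      · exact ha.symm
    have r1 : (φ k hk ≫ U.map θ.op) z = f₀.app _ (V.map θ.op z.1) := by
      change U.map θ.op (if z.2 = _ then f₀.app _ z.1 else f₁.app _ z.1) = _
      split_ifs
      · exact (NatTrans.naturality_apply f₀ θ.op z.1).symm
      · exact (NatTrans.naturality_apply f₁ θ.op z.1).symm.trans ha.symm
    exact l1.trans r1.symm)
  refine ⟨{ h := Φ, h₀ := ?_, h₁ := ?_, rel := ?_ }⟩
  · refine hom_ext (n := n) fun k hk => ?_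
    ext x
    change Φ.app _ (SSet.ι₀.app _ x) = f₀.app _ x
    rw [hΦ k hk]
    exact if_pos rfl
  · refine hom_ext (n := n) fun k hk => ?_
    ext x
    change Φ.app _ (SSet.ι₁.app _ x) = f₁.app _ x
    rw [hΦ k hk]
    refine if_neg fun e => ?_
    have := congrArg (fun a => SSet.stdSimplex.objEquiv a |>.toOrderHom 0) e
    simp at this
    have h2 : (1 : Fin 2) = 0 := this
    exact absurd h2 (by decide)
  · ext k ⟨⟨_, hx⟩, _⟩
    exact hx.elim

end Groth.Cosk
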