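import Mathlib
import Groth.Agent.S6800
import Groth.Agent.Lib.Cosk.Basic

/-!
# Changing the level of coskeletality
-/

set_option autoImplicit false

universe u v

namespace Groth.Cosk

open CategoryTheory CategoryTheory.Limits Opposite Simplicial

variable {C : Type u} [Category.{v} C] [HasFiniteLimits C]

/-- A coskeletal object is a pointwise right Kan extension. -/
noncomputable def pointwise (U : SimplicialObject C) (n : ℕ) [U.IsCoskeletal n] :
    (Functor.RightExtension.mk U
      (𝟙 ((SimplexCategory.Truncated.inclusion n).op ⋙ U))).IsPointwiseRightKanExtension :=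
  haveI : (SimplexCategory.Truncated.inclusion n).op.HasPointwiseRightKanExtension
      ((SimplexCategory.Truncated.inclusion n).op ⋙ U) := Groth.Agent.S6800.result n _
  Functor.isPointwiseRightKanExtensionOfIsRightKanExtension U _

theorem obj_hom_ext (U : SimplicialObject C) (n : ℕ) [U.IsCoskeletal n] {T : C}
    {Y : SimplexCategoryᵒᵖ} {f g : T ⟶ U.obj Y}
    (h : ∀ (j : ℕ) (_ : j ≤ n) (θ : Y ⟶ op ⦋j⦌), f ≫ U.map θ = g ≫ U.map θ) : f = g :=
  (pointwise U n Y).hom_ext fun z => by
    change f ≫ U.map z.hom ≫ 𝟙 _ = g ≫ U.map z.hom ≫ 𝟙 _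
    erw [Category.comp_id]
    exact h z.right.unop.1.len z.right.unop.2 z.hom

theorem isCoskeletal_of_le (U : SimplicialObject C) {n m : ℕ} (h : n ≤ m) [U.IsCoskeletal n] :
    U.IsCoskeletal m := by
  have key : ∀ (G : SimplicialObject C)
      (β : (SimplexCategory.Truncated.inclusion m).op ⋙ G ⟶ (SimplexCategory.Truncated.inclusion m).op ⋙ U),
      ∃! γ : G ⟶ U, Functor.whiskerLeft (SimplexCategory.Truncated.inclusion m).op γ = β := fun G β => by
    obtain ⟨γ, hγ⟩ := exists_hom (n := n) (U := U) (W := G)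
      (fun k hk => β.app (op ⟨⦋k⦌, hk.trans h⟩)) fun k l hk hl θ =>
        β.naturality (ObjectProperty.homMk θ : (⟨⦋l⦌, hl.trans h⟩ : SimplexCategory.Truncated m) ⟶ ⟨⦋k⦌, hk.trans h⟩).op
    refine ⟨γ, ?_, fun γ' hγ' => hom_ext (n := n) fun k hk => ?_⟩
    · ext z
      refine obj_hom_ext U n fun j hj θ => ?_
      change γ.app _ ≫ U.map θ = β.app z ≫ U.map θ
      rw [← γ.naturality, hγ j hj]
      exact β.naturality (ObjectProperty.homMk θ.unop : (⟨⦋j⦌, hj.trans h⟩ : SimplexCategory.Truncated m) ⟶ z.unop).op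
    · rw [hγ k hk, ← hγ']
      rfl
  refine ⟨⟨⟨IsTerminal.ofUniqueHom (fun s => CostructuredArrow.homMk (key s.left s.hom).exists.choose ?_)
    fun s z => ?_⟩⟩⟩
  · exact (Category.comp_id _).trans (key s.left s.hom).exists.choose_spec
  · apply CostructuredArrow.hom_ext
    exact (key s.left s.hom).unique ((Category.comp_id _).symm.trans (CostructuredArrow.w z))
      (key s.left s.hom).exists.choose_spec

theorem isConnected_arrows (k : ℕ) (hk : 1 ≤ k) (Y : SimplexCategoryᵒᵖ) :
    IsConnected (StructuredArrow Y (SimplexCategory.Truncated.inclusion k).op) := by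
  obtain ⟨Y⟩ := Y
  let vert : Fin (Y.len + 1) → StructuredArrow (op Y) (SimplexCategory.Truncated.inclusion k).op := fun a =>
    StructuredArrow.mk (Y := op (⟨⦋0⦌, Nat.zero_le k⟩ : SimplexCategory.Truncated k))
      (SimplexCategory.const ⦋0⦌ Y a).op
  haveI : Nonempty (StructuredArrow (op Y) (SimplexCategory.Truncated.inclusion k).op) := ⟨vert 0⟩
  have hv : ∀ (z : StructuredArrow (op Y) (SimplexCategory.Truncated.inclusion k).op)
      (i : Fin (z.right.unop.1.len + 1)), Zigzag z (vert (z.hom.unop.toOrderHom i)) := fun z i =>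
    Zigzag.of_hom (StructuredArrow.homMk
      (ObjectProperty.homMk (SimplexCategory.const ⦋0⦌ z.right.unop.1 i) :
        (⟨⦋0⦌, Nat.zero_le k⟩ : SimplexCategory.Truncated k) ⟶ z.right.unop).op (by
      apply Quiver.Hom.unop_inj
      exact SimplexCategory.const_comp _ _ _))
  have hlt : ∀ a b : Fin (Y.len + 1), a ≤ b → Zigzag (vert a) (vert b) := fun a b hab => by
    let e : StructuredArrow (op Y) (SimplexCategory.Truncated.inclusion k).op :=
      StructuredArrow.mk (Y := op (⟨⦋1⦌, hk⟩ : SimplexCategory.Truncated k))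
        (SimplexCategory.mkHom ⟨![a, b], by
          intro i j hij; fin_cases i <;> fin_cases j <;> simp_all⟩ : ⦋1⦌ ⟶ Y).op
    exact (Zigzag.symm (hv e 0)).trans (hv e 1)
  refine zigzag_isConnected fun z w => ?_
  refine ((hv z 0).trans ?_).trans (Zigzag.symm (hv w 0))
  rcases le_total (z.hom.unop.toOrderHom 0) (w.hom.unop.toOrderHom 0) with h | h
  · exact hlt _ _ h
  · exact Zigzag.symm (hlt _ _ h)

theorem isCoskeletal_forget (X : C) (k : ℕ) (hk : 1 ≤ k) (V : SimplicialObject (Over X))
    [V.IsCoskeletal k] : SimplicialObject.IsCoskeletal (V ⋙ Over.forget X) k := by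
  refine ⟨?_⟩
  let E := Functor.RightExtension.mk (V ⋙ Over.forget X)
    (𝟙 ((SimplexCategory.Truncated.inclusion k).op ⋙ V ⋙ Over.forget X))
  have hE : E.IsPointwiseRightKanExtension := fun Y => by
    haveI := isConnected_arrows k hk Y
    refine IsLimit.ofIsoLimit (isLimitOfPreserves (Over.forget X) (pointwise V k Y)) (Cone.ext (Iso.refl _) fun z => ?_)
    change (V.map z.hom ≫ 𝟙 _).left = 𝟙 _ ≫ (V.map z.hom).left ≫ 𝟙 _
    simp
  exact hE.isRightKanExtension

end Groth.Cosk
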