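import Mathlib
import Groth.Agent.Lib.Cosk.AbFill

/-!
# Surjective maps of simplicial abelian groups are fibrations; trivial fibrations
-/

set_option autoImplicit false

universe u

namespace Groth.AbFill

open CategoryTheory Opposite Simplicial AlgebraicTopology

variable {X Y : SimplicialObject AddCommGrpCat.{u}} (f : X ⟶ Y)

/-- The underlying map of simplicial sets. -/
abbrev U : (X ⋙ forget AddCommGrpCat.{u} : SSet.{u}) ⟶ (Y ⋙ forget AddCommGrpCat.{u} : SSet.{u}) :=
  Functor.whiskerRight f (forget AddCommGrpCat.{u})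

theorem face_map_eq {n : ℕ} (k : Fin (n + 3)) {S : SSet.{u}}
    (t : (Λ[n + 2, k] : SSet.{u}) ⟶ S) (i j : Fin (n + 2)) (hij : i ≤ j)
    (hi : i.castSucc ≠ k) (hj : j.succ ≠ k) :
    S.δ i (t.app _ (SSet.horn.face k j.succ hj)) = S.δ j (t.app _ (SSet.horn.face k i.castSucc hi)) := by
  refine ((NatTrans.naturality_apply t _ _).symm.trans ?_).trans (NatTrans.naturality_apply t _ _)
  refine congrArg _ (Subtype.ext ?_)
  change (Δ[n + 2] : SSet.{u}).δ i (SSet.stdSimplex.objEquiv.symm (SimplexCategory.δ j.succ ≫ 𝟙 _)) =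
    (Δ[n + 2] : SSet.{u}).δ j (SSet.stdSimplex.objEquiv.symm (SimplexCategory.δ i.castSucc ≫ 𝟙 _))
  rw [Category.comp_id, Category.comp_id, SSet.stdSimplex.δ_objEquiv_symm_apply,
    SSet.stdSimplex.δ_objEquiv_symm_apply, SimplexCategory.δ_comp_δ hij]

theorem symm_face {n : ℕ} (k j : Fin (n + 2)) (h : j ≠ k) {S : SSet.{u}} (w : S.obj (op ⦋n + 1⦌)) :
    (SSet.yonedaEquiv.symm w : (Δ[n + 1] : SSet.{u}) ⟶ S).app _ (SSet.horn.face k j h).1 = S.δ j w := by
  change (SSet.yonedaEquiv.symm w).app _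
    (SSet.stdSimplex.objEquiv.symm (SimplexCategory.δ j ≫ 𝟙 _)) = _
  rw [Category.comp_id, SSet.yonedaEquiv_symm_app_objEquiv_symm]
  rfl

/-- Moore's theorem. -/
theorem rlp_J {P Q : SimplicialObject AddCommGrpCat.{u}} (f : P ⟶ Q) (hf : ∀ n : SimplexCategoryᵒᵖ, Function.Surjective (f.app n)) :
    SSet.modelCategoryQuillen.J.rlp (U f) := by
  intro A B g hg
  simp only [SSet.modelCategoryQuillen.J, MorphismProperty.iSup_iff] at hg
  obtain ⟨n, ⟨k⟩⟩ := hg
  refine ⟨fun {t b} sq => ?_⟩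
  obtain ⟨z, hz⟩ := hf (op ⦋n + 1⦌) (SSet.yonedaEquiv b)
  let x : Fin (n + 2) → P.obj (op ⦋n⦌) := fun i =>
    if h : i = k then 0
    else (show P.obj (op ⦋n⦌) from t.app _ (SSet.horn.face k i h)) - P.δ i z
  have hx : ∀ i, i ≠ k → InKer f (x i) := fun i hi => by
    simp only [InKer, x, dif_neg hi]
    rw [map_sub, sub_eq_zero]
    have e1 : (U f).app _ (t.app _ (SSet.horn.face k i hi)) = b.app _ (SSet.horn.face k i hi).1 :=
      congrArg (fun φ => φ.app _ (SSet.horn.face k i hi)) sq.w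
    refine e1.trans ?_
    rw [← SSet.yonedaEquiv.symm_apply_apply b, symm_face k i hi, ← hz]
    exact (NatTrans.naturality_apply f _ z).symm
  obtain ⟨w, hw, hwx⟩ : ∃ w : P.obj (op ⦋n + 1⦌), InKer f w ∧ ∀ i, i ≠ k → P.δ i w = x i := by
    cases n with
    | zero => exact fill_one f k x hx
    | succ m =>
      refine fill f k x hx fun i j hij hi hj => ?_
      have hi' : i.castSucc ≠ k := fun e => hi (by rw [e])
      have hj' : j.succ ≠ k := fun e => hj (by rw [e])
      simp only [x, dif_neg hi', dif_neg hj', map_sub]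
      refine congrArg₂ (· - ·) (face_map_eq k t i j hij hi' hj') ?_
      exact ConcreteCategory.congr_hom (P.δ_comp_δ hij) z
  refine ⟨⟨{ l := SSet.yonedaEquiv.symm (z + w), fac_left := ?_, fac_right := ?_ }⟩⟩
  · refine SSet.horn.hom_ext _ _ fun j hj => ?_
    change (SSet.yonedaEquiv.symm (z + w) : (Δ[n + 1] : SSet.{u}) ⟶ (P ⋙ forget AddCommGrpCat.{u} : SSet.{u})).app _ (SSet.horn.face k j hj).1 = _
    rw [symm_face k j hj]
    change P.δ j (z + w) = _
    rw [map_add, hwx j hj]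
    simp only [x, dif_neg hj]
    exact add_sub_cancel _ _
  · apply SSet.yonedaEquiv.injective
    rw [SSet.yonedaEquiv_comp, Equiv.apply_symm_apply]
    change f.app _ (z + w) = _
    rw [map_add, hz, show f.app _ w = 0 from hw, add_zero]

end Groth.AbFill
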