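import Mathlib
import Groth.Agent.Lib.Cosk.Moore

/-!
# Surjective quasi-isomorphisms of simplicial abelian groups are trivial fibrations
-/

set_option autoImplicit false

universe u

namespace Groth.AbFill

open CategoryTheory Opposite Simplicial AlgebraicTopology AlgebraicTopology.DoldKan

/-- The map from `ℤ` given by an element. -/
noncomputable def el {G : AddCommGrpCat.{u}} (x : G) : AddCommGrpCat.of (ULift.{u} ℤ) ⟶ G :=
  AddCommGrpCat.ofHom (uliftZMultiplesHom G x)

theorem el_one {G : AddCommGrpCat.{u}} (x : G) : el x ⟨1⟩ = x := one_zsmul x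

theorem el_ext {G : AddCommGrpCat.{u}} {φ ψ : AddCommGrpCat.of (ULift.{u} ℤ) ⟶ G}
    (h : φ ⟨1⟩ = ψ ⟨1⟩) : φ = ψ := by
  refine AddCommGrpCat.hom_ext ((uliftZMultiplesHom G).symm.injective ?_)
  exact h

theorem el_comp {G H : AddCommGrpCat.{u}} (x : G) (g : G ⟶ H) : el x ≫ g = el (g x) :=
  el_ext (by rw [ConcreteCategory.comp_apply, el_one, el_one])

theorem hom_sum_apply {G H : AddCommGrpCat.{u}} {κ : Type*} (s : Finset κ) (g : κ → (G ⟶ H))
    (x : G) : (∑ i ∈ s, g i) x = ∑ i ∈ s, g i x := by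
  classical
  induction s using Finset.induction_on with
  | empty => simp
  | insert a t ha ih => rw [Finset.sum_insert ha, Finset.sum_insert ha, ← ih]; rfl

theorem el_zero {G : AddCommGrpCat.{u}} : el (0 : G) = 0 := el_ext (by rw [el_one]; rfl)

section Complex

variable {ι : Type*} {c : ComplexShape ι} {K L : HomologicalComplex AddCommGrpCat.{u} c}
  (φ : K ⟶ L)

theorem exists_of_mono_homologyMap {i j k : ι} (hi : c.prev j = i) (hk : c.next j = k)
    (h : Mono (HomologicalComplex.homologyMap φ j)) (x : K.X j) (hx : K.d j k x = 0)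
    (y : L.X i) (hy : φ.f j x = L.d i j y) : ∃ a : K.X i, K.d i j a = x := by
  rw [HomologicalComplex.mono_homologyMap_iff_up_to_refinements (φ := φ) i j k hi hk] at h
  obtain ⟨A', π, hπ, x₁, hx₁⟩ := h (el x) (by rw [el_comp, hx, el_zero]) (el y)
    (by rw [el_comp, el_comp, hy])
  obtain ⟨a', ha'⟩ := (AddCommGrpCat.epi_iff_surjective π).mp hπ ⟨1⟩
  refine ⟨x₁ a', ?_⟩
  have := ConcreteCategory.congr_hom hx₁ a'
  rw [ConcreteCategory.comp_apply, ConcreteCategory.comp_apply, ha', el_one] at this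
  exact this.symm

theorem exists_of_epi_homologyMap {i j k : ι} (hi : c.prev j = i) (hk : c.next j = k)
    (h : Epi (HomologicalComplex.homologyMap φ j)) (y : L.X j) (hy : L.d j k y = 0) :
    ∃ (a : K.X j) (b : L.X i), K.d j k a = 0 ∧ φ.f j a + L.d i j b = y := by
  rw [HomologicalComplex.epi_homologyMap_iff_up_to_refinements (φ := φ) i j k hi hk] at h
  obtain ⟨A', π, hπ, x₂, hx₂, y₁, hy₁⟩ := h (el y) (by rw [el_comp, hy, el_zero])
  obtain ⟨a', ha'⟩ := (AddCommGrpCat.epi_iff_surjective π).mp hπ ⟨1⟩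
  refine ⟨x₂ a', y₁ a', ?_, ?_⟩
  · have := ConcreteCategory.congr_hom hx₂ a'
    rw [ConcreteCategory.comp_apply] at this
    exact this
  · have := ConcreteCategory.congr_hom hy₁ a'
    rw [ConcreteCategory.comp_apply, ha', el_one] at this
    exact this.symm

/-- The kernel of a surjective quasi-isomorphism is acyclic. -/
theorem exists_boundary_of_surjective {i' i j k : ι} (hi' : c.prev i = i') (hij : c.next i = j)
    (hi : c.prev j = i) (hk : c.next j = k) (hq : QuasiIso φ)
    (hs : ∀ n, Function.Surjective (φ.f n)) (x : K.X j) (hx : K.d j k x = 0)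
    (hfx : φ.f j x = 0) : ∃ e : K.X i, φ.f i e = 0 ∧ K.d i j e = x := by
  have hmono : Mono (HomologicalComplex.homologyMap φ j) := inferInstance
  have hepi : Epi (HomologicalComplex.homologyMap φ i) := inferInstance
  obtain ⟨a, ha⟩ := exists_of_mono_homologyMap φ hi hk hmono x hx 0 (by rw [hfx, map_zero])
  have hfa : L.d i j (φ.f i a) = 0 := by
    rw [← ConcreteCategory.comp_apply, φ.comm, ConcreteCategory.comp_apply, ha, hfx]
  obtain ⟨g, h, hg, hgh⟩ := exists_of_epi_homologyMap φ hi' hij hepi _ hfa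
  obtain ⟨h', rfl⟩ := hs i' h
  refine ⟨a - g - K.d i' i h', ?_, ?_⟩
  · rw [← ConcreteCategory.comp_apply, φ.comm, ConcreteCategory.comp_apply] at hgh
    rw [map_sub, map_sub, ← hgh]
    abel
  · rw [map_sub, map_sub, ha, hg, ← ConcreteCategory.comp_apply, K.d_comp_d, sub_zero]
    exact sub_zero x

end Complex

variable {P Q : SimplicialObject AddCommGrpCat.{u}} (f : P ⟶ Q)

/-- A cycle with vanishing faces in the kernel is the zeroth face of an element of the kernel,
the other faces of which vanish. -/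
theorem exists_normalized (hf : ∀ n : SimplexCategoryᵒᵖ, Function.Surjective (f.app n))
    (hq : QuasiIso ((alternatingFaceMapComplex AddCommGrpCat.{u}).map f)) (n : ℕ)
    (c : P.obj (op ⦋n⦌)) (hc : InKer f c)
    (hδ : ∀ p : ℕ, ∀ h : n = p + 1, ∀ i : Fin (p + 2),
      P.δ i (cast (by rw [h]) c : P.obj (op ⦋p + 1⦌)) = 0) :
    ∃ e : P.obj (op ⦋n + 1⦌), InKer f e ∧ P.δ 0 e = c ∧
      ∀ i : Fin (n + 1), P.δ i.succ e = 0 := by
  let K := (alternatingFaceMapComplex AddCommGrpCat.{u}).obj P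
  have hcyc : K.d n ((ComplexShape.down ℕ).next n) c = 0 := by
    cases n with
    | zero =>
      rw [K.shape _ _ (by simp)]
      rfl
    | succ p =>
      rw [ChainComplex.next_nat_succ, alternatingFaceMapComplex_obj_d,
        AlternatingFaceMapComplex.objD]
      rw [hom_sum_apply]
      simp only [AddCommGrpCat.hom_zsmul, AddMonoidHom.coe_smul, Pi.smul_apply]
      refine Finset.sum_eq_zero fun i _ => ?_
      have := hδ p rfl i
      exact (congrArg _ this).trans (smul_zero _)
  obtain ⟨e, he, hde⟩ := exists_boundary_of_surjective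
    ((alternatingFaceMapComplex AddCommGrpCat.{u}).map f) (i' := n + 2) (i := n + 1) (j := n)
    (k := (ComplexShape.down ℕ).next n)
    (ChainComplex.prev ℕ (n + 1)) (ChainComplex.next_nat_succ n) (ChainComplex.prev ℕ n) rfl
    hq (fun m => hf (op ⦋m⦌)) c hcyc hc
  let e' : P.obj (op ⦋n + 1⦌) := (DoldKan.P (X := P) (n + 1)).f (n + 1) e
  have he0 : ∀ i : Fin (n + 1), P.δ i.succ e' = 0 := fun i =>
    ConcreteCategory.congr_hom ((HigherFacesVanish.of_P (X := P) (n + 1) n) i (by omega)) e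
  have hd : P.δ 0 e' = K.d (n + 1) n e' := by
    rw [alternatingFaceMapComplex_obj_d, AlternatingFaceMapComplex.objD]
    rw [hom_sum_apply, Fin.sum_univ_succ (n := n + 1)]
    simp only [AddCommGrpCat.hom_zsmul, AddMonoidHom.coe_smul, Pi.smul_apply]
    rw [Finset.sum_eq_zero fun i _ => (congrArg _ (he0 i)).trans (smul_zero _)]
    simp
  refine ⟨e', ?_, hd.trans ?_, he0⟩
  · change f.app _ e' = 0
    have := ConcreteCategory.congr_hom (P_f_naturality (n + 1) (n + 1) f) e
    rw [ConcreteCategory.comp_apply, ConcreteCategory.comp_apply] at this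
    rw [← this]
    exact (congrArg _ he).trans (map_zero _)
  · have := ConcreteCategory.congr_hom ((DoldKan.P (X := P) (n + 1)).comm (n + 1) n) e
    rw [ConcreteCategory.comp_apply, ConcreteCategory.comp_apply] at this
    refine this.trans ((congrArg _ hde).trans ?_)
    cases n with
    | zero =>
      rw [P_f_0_eq]
      rfl
    | succ p =>
      have hv : HigherFacesVanish (p + 1 + 1) (el c : _ ⟶ P _⦋p + 1⦌) := fun j _ => by
        rw [el_comp]
        exact (congrArg el (hδ p rfl j.succ)).trans el_zero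
      have := ConcreteCategory.congr_hom hv.comp_P_eq_self ⟨1⟩
      rwa [ConcreteCategory.comp_apply, el_one] at this

theorem yoneda_compat {n : ℕ} {S : SSet.{u}} (t : (∂Δ[n + 2] : SSet.{u}) ⟶ S) (i j : Fin (n + 2))
    (hij : i ≤ j) :
    S.δ i (SSet.yonedaEquiv (SSet.boundary.ι j.succ ≫ t)) =
      S.δ j (SSet.yonedaEquiv (SSet.boundary.ι i.castSucc ≫ t)) := by
  rw [← SSet.stdSimplex.yonedaEquiv_δ_comp, ← SSet.stdSimplex.yonedaEquiv_δ_comp,
    ← Category.assoc, ← Category.assoc]
  congr 2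
  rw [← cancel_mono (∂Δ[n + 2] : (Δ[n + 2] : SSet.{u}).Subcomplex).ι, Category.assoc,
    Category.assoc, SSet.boundary.ι_ι, SSet.boundary.ι_ι]
  exact SSet.stdSimplex.{u}.δ_comp_δ hij

/-- A face of a boundary in the underlying simplicial set, as an element of the group. -/
def bface {n : ℕ} (t : (∂Δ[n + 1] : SSet.{u}) ⟶ (P ⋙ forget AddCommGrpCat.{u} : SSet.{u}))
    (i : Fin (n + 2)) : P.obj (op ⦋n⦌) :=
  SSet.yonedaEquiv (SSet.boundary.ι i ≫ t)

theorem bface_compat {n : ℕ}
    (t : (∂Δ[n + 2] : SSet.{u}) ⟶ (P ⋙ forget AddCommGrpCat.{u} : SSet.{u})) (i j : Fin (n + 2))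
    (hij : i ≤ j) : P.δ i (bface t j.succ) = P.δ j (bface t i.castSucc) :=
  yoneda_compat t i j hij

theorem app_bface {n : ℕ}
    {t : (∂Δ[n + 1] : SSet.{u}) ⟶ (P ⋙ forget AddCommGrpCat.{u} : SSet.{u})}
    {b : (Δ[n + 1] : SSet.{u}) ⟶ (Q ⋙ forget AddCommGrpCat.{u} : SSet.{u})}
    (w : t ≫ U f = (∂Δ[n + 1] : (Δ[n + 1] : SSet.{u}).Subcomplex).ι ≫ b)
    {z : P.obj (op ⦋n + 1⦌)} (hz : f.app _ z = SSet.yonedaEquiv b) (i : Fin (n + 2)) :
    f.app _ (bface t i) = f.app _ (P.δ i z) := by
  have e1 : (U f).app _ (SSet.yonedaEquiv (SSet.boundary.ι i ≫ t)) =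
      SSet.yonedaEquiv (SSet.stdSimplex.δ i ≫ b) := by
    rw [← SSet.yonedaEquiv_comp, Category.assoc, w, SSet.boundary.ι_ι_assoc]
  refine e1.trans ?_
  rw [SSet.stdSimplex.yonedaEquiv_δ_comp, ← hz]
  exact (NatTrans.naturality_apply f _ z).symm

/-- Surjective quasi-isomorphisms are trivial fibrations. -/
theorem rlp_I (hf : ∀ n : SimplexCategoryᵒᵖ, Function.Surjective (f.app n))
    (hq : QuasiIso ((alternatingFaceMapComplex AddCommGrpCat.{u}).map f)) :
    SSet.modelCategoryQuillen.I.rlp (U f) := by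
  intro A B g hg
  obtain ⟨m⟩ := hg
  refine ⟨fun {t b} sq => ?_⟩
  obtain ⟨z, hz⟩ := hf (op ⦋m⦌) (SSet.yonedaEquiv b)
  cases m with
  | zero =>
    refine ⟨⟨{ l := SSet.yonedaEquiv.symm z, fac_left := ?_, fac_right := ?_ }⟩⟩
    · exact SSet.boundary.hom_ext₀
    apply SSet.yonedaEquiv.injective
    rw [SSet.yonedaEquiv_comp, Equiv.apply_symm_apply]
    exact hz
  | succ n =>
    let x : Fin (n + 2) → P.obj (op ⦋n⦌) := fun i => bface t i - P.δ i z
    have hx : ∀ i, InKer f (x i) := fun i => by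
      change f.app _ (bface t i - P.δ i z) = 0
      rw [map_sub, sub_eq_zero]
      exact app_bface f sq.w hz i
    obtain ⟨w, hw, hwx, hc⟩ : ∃ w : P.obj (op ⦋n + 1⦌), InKer f w ∧
        (∀ i, i ≠ 0 → P.δ i w = x i) ∧ ∀ p : ℕ, ∀ h : n = p + 1, ∀ i : Fin (p + 2),
          P.δ i (cast (by rw [h]) (x 0 - P.δ 0 w) : P.obj (op ⦋p + 1⦌)) = 0 := by
      cases n with
      | zero =>
        obtain ⟨w, hw, hwx⟩ := fill_one f 0 x fun i _ => hx i
        exact ⟨w, hw, hwx, fun p h => absurd h (by omega)⟩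
      | succ p =>
        have hxc : ∀ i j : Fin (p + 2), i ≤ j → P.δ i (x j.succ) = P.δ j (x i.castSucc) :=
          fun i j hij => by
            simp only [x, map_sub]
            refine congrArg₂ (· - ·) (bface_compat t i j hij) ?_
            exact ConcreteCategory.congr_hom (P.δ_comp_δ hij) z
        obtain ⟨w, hw, hwx⟩ := fill f 0 x (fun i _ => hx i) fun i j hij _ _ => hxc i j hij
        refine ⟨w, hw, hwx, fun q h i => ?_⟩
        obtain rfl : p = q := by omega
        change P.δ i (x 0 - P.δ 0 w) = 0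
        rw [map_sub, sub_eq_zero]
        have := ConcreteCategory.congr_hom (P.δ_comp_δ (Fin.zero_le i)) w
        refine ((hxc 0 i (Fin.zero_le i)).symm.trans ?_).trans this
        exact (congrArg _ (hwx i.succ (Fin.succ_ne_zero i))).symm
    obtain ⟨e, he, he0, hes⟩ := exists_normalized f hf hq n (x 0 - P.δ 0 w)
      (inKer_sub f (hx 0) (inKer_map f _ hw)) hc
    refine ⟨⟨{ l := SSet.yonedaEquiv.symm (z + (w + e)), fac_left := ?_, fac_right := ?_ }⟩⟩
    · refine SSet.boundary.hom_ext fun i => SSet.yonedaEquiv.injective ?_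
      rw [SSet.boundary.ι_ι_assoc, SSet.stdSimplex.yonedaEquiv_δ_comp, Equiv.apply_symm_apply]
      change P.δ i (z + (w + e)) = _
      rw [map_add, map_add]
      have : P.δ i w + P.δ i e = x i := by
        rcases eq_or_ne i 0 with rfl | hi
        · rw [he0]; exact add_sub_cancel _ _
        · obtain ⟨i', rfl⟩ := Fin.exists_succ_eq.2 hi
          rw [hwx _ hi, hes i', add_zero]
      rw [this]
      exact add_sub_cancel _ _
    · apply SSet.yonedaEquiv.injective
      rw [SSet.yonedaEquiv_comp, Equiv.apply_symm_apply]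
      change f.app _ (z + (w + e)) = _
      rw [map_add, map_add, hz, show f.app _ w = 0 from hw, show f.app _ e = 0 from he,
        add_zero, add_zero]

end Groth.AbFill
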