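import Mathlib
import Groth.Agent.Lib.Cosk.Triv

/-!
# Homotopy equivalences of simplicial abelian groups are quasi-isomorphisms
-/

set_option autoImplicit false

universe u

namespace Groth.AbFill

open CategoryTheory Limits Opposite Simplicial AlgebraicTopology AlgebraicTopology.DoldKan
open HomologicalComplex (homologyMap)

section Complex

variable {ι : Type*} {c : ComplexShape ι} {K L : HomologicalComplex AddCommGrpCat.{u} c}

theorem el_split {A' : AddCommGrpCat.{u}} (π : A' ⟶ AddCommGrpCat.of (ULift.{u} ℤ)) [Epi π] :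
    ∃ a' : A', el a' ≫ π = 𝟙 _ := by
  obtain ⟨a', ha'⟩ := (AddCommGrpCat.epi_iff_surjective π).mp inferInstance ⟨1⟩
  exact ⟨a', el_ext (by rw [el_comp, el_one, ha']; rfl)⟩

theorem exists_rep {i : ι} (j : ι) (hj : c.next i = j) (h : K.homology i) :
    ∃ (z : K.X i) (hz : el z ≫ K.d i j = 0),
      el h = K.liftCycles (el z) j hj hz ≫ K.homologyπ i := by
  obtain ⟨A', π, hπ, z, hz, e⟩ := K.eq_liftCycles_homologyπ_up_to_refinements (el h) j hj
  obtain ⟨a', ha'⟩ := el_split π
  have hk : el a' ≫ z = el (z a') := el_comp a' z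
  refine ⟨z a', by rw [← hk, Category.assoc, hz, comp_zero], ?_⟩
  have := congrArg (el a' ≫ ·) e
  simp only [reassoc_of% ha', ← Category.assoc, HomologicalComplex.comp_liftCycles] at this
  refine this.trans ?_
  simp only [hk]

theorem quasiIsoAt_of_elements (φ : K ⟶ L) {i j k : ι} (hi : c.prev j = i) (hk : c.next j = k)
    (hmono : ∀ x, K.d j k x = 0 → (∃ y, L.d i j y = φ.f j x) → ∃ a, K.d i j a = x)
    (hepi : ∀ y, L.d j k y = 0 → ∃ a b, K.d j k a = 0 ∧ φ.f j a + L.d i j b = y) :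
    QuasiIsoAt φ j := by
  rw [quasiIsoAt_iff_isIso_homologyMap]
  refine (isIso_iff_mono_and_epi _).mpr ⟨?_, ?_⟩
  · rw [AddCommGrpCat.mono_iff_injective, injective_iff_map_eq_zero]
    intro h hh
    obtain ⟨z, hz, e⟩ := exists_rep k hk h
    have hz' : K.d j k z = 0 := by
      have := ConcreteCategory.congr_hom hz ⟨1⟩
      rwa [ConcreteCategory.comp_apply, el_one] at this
    have e2 := congrArg (· ≫ homologyMap φ j) e
    simp only [Category.assoc, HomologicalComplex.homologyπ_naturality,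
      ← Category.assoc (K.liftCycles _ _ _ _), HomologicalComplex.liftCycles_comp_cyclesMap] at e2
    rw [el_comp, hh, el_zero, eq_comm,
      L.liftCycles_comp_homologyπ_eq_zero_iff_up_to_refinements i j k hi hk] at e2
    obtain ⟨A', π, hπ, y, hy⟩ := e2
    obtain ⟨a', ha'⟩ := el_split π
    have := congrArg (el a' ≫ ·) hy
    simp only [reassoc_of% ha', el_comp, ← Category.assoc] at this
    replace this := ConcreteCategory.congr_hom this ⟨1⟩
    rw [el_one, el_one] at this
    obtain ⟨a, ha⟩ := hmono z hz' ⟨y a', this.symm⟩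
    have e3 : K.liftCycles (el z) k hk hz ≫ K.homologyπ j = 0 := by
      rw [K.liftCycles_comp_homologyπ_eq_zero_iff_up_to_refinements i j k hi hk]
      exact ⟨_, 𝟙 _, inferInstance, el a, by rw [Category.id_comp, el_comp, ha]⟩
    rw [e3] at e
    have := ConcreteCategory.congr_hom e ⟨1⟩
    rw [el_one] at this
    exact this
  · rw [AddCommGrpCat.epi_iff_surjective]
    intro h
    obtain ⟨z, hz, e⟩ := exists_rep k hk h
    have hz' : L.d j k z = 0 := by
      have := ConcreteCategory.congr_hom hz ⟨1⟩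
      rwa [ConcreteCategory.comp_apply, el_one] at this
    obtain ⟨a, b, ha, hab⟩ := hepi z hz'
    have haz : el a ≫ K.d j k = 0 := by rw [el_comp, ha, el_zero]
    refine ⟨(K.liftCycles (el a) k hk haz ≫ K.homologyπ j) ⟨1⟩, ?_⟩
    rw [← ConcreteCategory.comp_apply, Category.assoc, HomologicalComplex.homologyπ_naturality,
      ← Category.assoc, HomologicalComplex.liftCycles_comp_cyclesMap]
    have e3 : L.liftCycles (el z) k hk hz ≫ L.homologyπ j =
        L.liftCycles (el a ≫ φ.f j) k hk (by rw [Category.assoc, φ.comm, reassoc_of% haz,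
          zero_comp]) ≫ L.homologyπ j := by
      rw [L.liftCycles_comp_homologyπ_eq_iff_up_to_refinements i j k hi hk]
      refine ⟨_, 𝟙 _, inferInstance, el b, el_ext ?_⟩
      rw [Category.id_comp, Category.id_comp, el_one]
      change z = (el a ≫ φ.f j) ⟨1⟩ + (el b ≫ L.d i j) ⟨1⟩
      rw [el_comp, el_comp, el_one, el_one, hab]
    rw [← e3, ← e, el_one]

theorem homotopy_apply {φ ψ : K ⟶ L} (D : Homotopy φ ψ) {i j k : ι} (hi : c.prev j = i)
    (hk : c.next j = k) (x : K.X j) (hx : K.d j k x = 0) :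
    φ.f j x = ψ.f j x + L.d i j (D.hom j i x) := by
  subst hi hk
  have := ConcreteCategory.congr_hom (D.comm j) x
  rw [this]
  change (K.d j (c.next j) ≫ D.hom (c.next j) j) x + (D.hom j (c.prev j) ≫ L.d (c.prev j) j) x +
    ψ.f j x = _
  rw [ConcreteCategory.comp_apply, ConcreteCategory.comp_apply, hx, map_zero, zero_add, add_comm]

end Complex

variable {P Q : SimplicialObject AddCommGrpCat.{u}}

/-- All the faces vanish. -/
def Faces0 (P : SimplicialObject AddCommGrpCat.{u}) {n : ℕ} (x : P.obj (op ⦋n⦌)) : Prop :=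
  match n, x with
  | 0, _ => True
  | m + 1, y => ∀ i : Fin (m + 2), P.δ i y = 0

/-- The chain complex. -/
noncomputable abbrev C (P : SimplicialObject AddCommGrpCat.{u}) :
    ChainComplex AddCommGrpCat.{u} ℕ :=
  (alternatingFaceMapComplex AddCommGrpCat.{u}).obj P

theorem d_succ_apply {n : ℕ} (x : P.obj (op ⦋n + 1⦌)) :
    (C P).d (n + 1) n x = ∑ i : Fin (n + 2), ((-1 : ℤ) ^ (i : ℕ)) • P.δ i x := by
  rw [alternatingFaceMapComplex_obj_d, AlternatingFaceMapComplex.objD, hom_sum_apply]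
  rfl

theorem d_eq_δ_zero {n : ℕ} (x : P.obj (op ⦋n + 1⦌)) (h : ∀ i : Fin (n + 1), P.δ i.succ x = 0) :
    (C P).d (n + 1) n x = P.δ 0 x := by
  rw [d_succ_apply, Fin.sum_univ_succ,
    Finset.sum_eq_zero fun i _ => (congrArg _ (h i)).trans (smul_zero _)]
  simp

theorem cycle_of_faces0 {n : ℕ} (x : P.obj (op ⦋n⦌)) (h : Faces0 P x) :
    (C P).d n ((ComplexShape.down ℕ).next n) x = 0 := by
  cases n with
  | zero =>
    rw [(C P).shape _ _ (by simp)]
    rfl
  | succ p =>
    rw [ChainComplex.next_nat_succ, d_succ_apply]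
    exact Finset.sum_eq_zero fun i _ => (congrArg _ (h i)).trans (smul_zero _)

theorem P_apply_eq_self {n : ℕ} (q : ℕ) (x : P.obj (op ⦋n⦌)) (h : Faces0 P x) :
    (DoldKan.P (X := P) q).f n x = x := by
  cases n with
  | zero =>
    rw [P_f_0_eq]
    rfl
  | succ p =>
    have hv : HigherFacesVanish q (el x : _ ⟶ P _⦋p + 1⦌) := fun j _ => by
      rw [el_comp]
      exact (congrArg el (h j.succ)).trans el_zero
    have := ConcreteCategory.congr_hom hv.comp_P_eq_self ⟨1⟩
    rwa [ConcreteCategory.comp_apply, el_one] at this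

/-- A cycle is homologous to a simplex with vanishing faces. -/
theorem exists_faces0 {n : ℕ} (x : P.obj (op ⦋n⦌))
    (hx : (C P).d n ((ComplexShape.down ℕ).next n) x = 0) :
    ∃ (c : P.obj (op ⦋n⦌)) (a : P.obj (op ⦋n + 1⦌)), Faces0 P c ∧ (C P).d (n + 1) n a = c - x := by
  refine ⟨(DoldKan.P (X := P) n).f n x, (homotopyPToId P n).hom n (n + 1) x, ?_, ?_⟩
  · cases n with
    | zero => trivial
    | succ p =>
      intro i
      rw [ChainComplex.next_nat_succ] at hx
      have hsucc : ∀ j : Fin (p + 1), P.δ j.succ ((DoldKan.P (X := P) (p + 1)).f (p + 1) x) = 0 :=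
        fun j => ConcreteCategory.congr_hom
          ((HigherFacesVanish.of_P (X := P) (p + 1) p) j (by omega)) x
      cases i using Fin.cases with
      | zero =>
        rw [← d_eq_δ_zero _ hsucc]
        have := ConcreteCategory.congr_hom ((DoldKan.P (X := P) (p + 1)).comm (p + 1) p) x
        rw [ConcreteCategory.comp_apply, ConcreteCategory.comp_apply] at this
        exact this.trans ((congrArg _ hx).trans (map_zero _))
      | succ j => exact hsucc j
  · exact eq_sub_of_add_eq'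
      (homotopy_apply (homotopyPToId P n) (ChainComplex.prev ℕ n) rfl x hx).symm

/-- The counit on the underlying simplicial set. -/
noncomputable def counit (P : SimplicialObject AddCommGrpCat.{u}) :
    ((SimplicialObject.whiskering (Type u) AddCommGrpCat.{u}).obj AddCommGrpCat.free).obj
      (P ⋙ forget AddCommGrpCat.{u}) ⟶ P where
  app n := AddCommGrpCat.adj.counit.app (P.obj n)
  naturality _ _ θ := AddCommGrpCat.adj.counit.naturality (P.map θ)

theorem counit_app_of (P : SimplicialObject AddCommGrpCat.{u}) (n : SimplexCategoryᵒᵖ)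
    (x : P.obj n) : (counit P).app n (FreeAbelianGroup.of x) = x :=
  FreeAbelianGroup.lift_apply_of _ x

/-- Homotopic maps of underlying simplicial sets agree on homology, up to the base point. -/
theorem boundary_of_homotopy {S : SimplicialObject AddCommGrpCat.{u}}
    {φ ψ : (P ⋙ forget AddCommGrpCat.{u} : SSet.{u}) ⟶ (S ⋙ forget AddCommGrpCat.{u} : SSet.{u})}
    (H : SSet.Homotopy φ ψ) {n : ℕ} (x : P.obj (op ⦋n⦌)) (hx : Faces0 P x) :
    ∃ b : S.obj (op ⦋n + 1⦌), (C S).d (n + 1) n b =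
      ((φ.app _ x : S.obj (op ⦋n⦌)) - (φ.app _ (0 : P.obj (op ⦋n⦌)) : S.obj (op ⦋n⦌))) -
      ((ψ.app _ x : S.obj (op ⦋n⦌)) - (ψ.app _ (0 : P.obj (op ⦋n⦌)) : S.obj (op ⦋n⦌))) := by
  let F := (SimplicialObject.whiskering (Type u) AddCommGrpCat.{u}).obj AddCommGrpCat.free
  let D := ((H.toSimplicialObjectHomotopy.whiskerRight AddCommGrpCat.free).toChainHomotopy).compRight
    ((alternatingFaceMapComplex AddCommGrpCat.{u}).map (counit S))
  let z : (F.obj (P ⋙ forget AddCommGrpCat.{u})).obj (op ⦋n⦌) :=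
    FreeAbelianGroup.of (x : P.obj (op ⦋n⦌)) - FreeAbelianGroup.of (0 : P.obj (op ⦋n⦌))
  have hz : (C (F.obj (P ⋙ forget AddCommGrpCat.{u}))).d n ((ComplexShape.down ℕ).next n) z = 0 := by
    refine cycle_of_faces0 (P := F.obj (P ⋙ forget AddCommGrpCat.{u})) z ?_
    cases n with
    | zero => trivial
    | succ p =>
      intro i
      change AddCommGrpCat.free.map ((forget AddCommGrpCat.{u}).map (P.δ i))
        (FreeAbelianGroup.of x - FreeAbelianGroup.of (0 : P.obj (op ⦋p + 1⦌))) = 0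
      refine (map_sub (AddCommGrpCat.free.map ((forget AddCommGrpCat.{u}).map (P.δ i))).hom _ _).trans
        (sub_eq_zero.mpr ?_)
      change FreeAbelianGroup.of (P.δ i x) = FreeAbelianGroup.of (P.δ i 0)
      rw [hx i, map_zero]
  have := homotopy_apply D (ChainComplex.prev ℕ n) rfl z hz
  refine ⟨D.hom n (n + 1) z, ?_⟩
  have e : ∀ χ : (P ⋙ forget AddCommGrpCat.{u} : SSet.{u}) ⟶
      (S ⋙ forget AddCommGrpCat.{u} : SSet.{u}),
      (((alternatingFaceMapComplex AddCommGrpCat.{u}).map (F.map χ) ≫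
        (alternatingFaceMapComplex AddCommGrpCat.{u}).map (counit S)).f n z : S.obj (op ⦋n⦌)) =
      (χ.app _ x : S.obj (op ⦋n⦌)) - (χ.app _ (0 : P.obj (op ⦋n⦌)) : S.obj (op ⦋n⦌)) := fun χ => by
    change (counit S).app _ (AddCommGrpCat.free.map (χ.app (op ⦋n⦌))
      (FreeAbelianGroup.of x - FreeAbelianGroup.of (0 : P.obj (op ⦋n⦌)))) = _
    refine (congrArg _ (map_sub (AddCommGrpCat.free.map (χ.app (op ⦋n⦌))).hom _ _)).trans ?_
    refine (map_sub ((counit S).app (op ⦋n⦌)).hom _ _).trans ?_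
    exact congrArg₂ (· - ·) (counit_app_of S _ _) (counit_app_of S _ _)
  have e1 := (e φ).symm.trans (this.trans (congrArg (· + _) (e ψ)))
  rw [e1]
  exact (add_sub_cancel_left _ _).symm

section

variable (f : P ⟶ Q) (g : (Q ⋙ forget AddCommGrpCat.{u} : SSet.{u}) ⟶
  (P ⋙ forget AddCommGrpCat.{u} : SSet.{u}))

/-- The inverse, moved to preserve the origin. -/
noncomputable def pointed (n : SimplexCategoryᵒᵖ) (y : Q.obj n) : P.obj n :=
  (g.app n y : P.obj n) - (g.app n (0 : Q.obj n) : P.obj n)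

theorem pointed_δ {n : ℕ} (i : Fin (n + 2)) (y : Q.obj (op ⦋n + 1⦌)) :
    P.δ i (pointed g _ y) = pointed g _ (Q.δ i y) := by
  unfold pointed
  refine (map_sub (P.δ i).hom _ _).trans ?_
  refine congrArg₂ (· - ·) (NatTrans.naturality_apply g _ y).symm ?_
  refine (NatTrans.naturality_apply g _ (0 : Q.obj (op ⦋n + 1⦌))).symm.trans ?_
  exact congrArg _ (map_zero (Q.δ i).hom)

theorem pointed_zero (n : SimplexCategoryᵒᵖ) : pointed g n 0 = 0 := sub_self _

theorem faces0_pointed {n : ℕ} {y : Q.obj (op ⦋n⦌)} (h : Faces0 Q y) :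
    Faces0 P (pointed g _ y) := by
  cases n with
  | zero => trivial
  | succ p => exact fun i => by rw [pointed_δ, h i, pointed_zero]

theorem faces0_app {n : ℕ} {x : P.obj (op ⦋n⦌)} (h : Faces0 P x) : Faces0 Q (f.app _ x) := by
  cases n with
  | zero => trivial
  | succ p =>
    exact fun i => ((NatTrans.naturality_apply f _ x).symm.trans
      ((congrArg _ (h i)).trans (map_zero _)))

/-- A homotopy inverse of the underlying map forces a quasi-isomorphism. -/
theorem quasiIso_of_homotopyEquiv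
    (hX : Nonempty (SSet.Homotopy (U f ≫ g) (𝟙 _)) ∨ Nonempty (SSet.Homotopy (𝟙 _) (U f ≫ g)))
    (hY : Nonempty (SSet.Homotopy (g ≫ U f) (𝟙 _)) ∨ Nonempty (SSet.Homotopy (𝟙 _) (g ≫ U f))) :
    QuasiIso ((alternatingFaceMapComplex AddCommGrpCat.{u}).map f) := by
  have hP : ∀ {n : ℕ} (c : P.obj (op ⦋n⦌)), Faces0 P c →
      ∃ b : P.obj (op ⦋n + 1⦌), (C P).d (n + 1) n b = pointed g _ (f.app _ c) - c := by
    intro n c hc
    have e : ∀ x : P.obj (op ⦋n⦌), ((U f ≫ g).app _ x : P.obj (op ⦋n⦌)) -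
        ((U f ≫ g).app _ (0 : P.obj (op ⦋n⦌)) : P.obj (op ⦋n⦌)) = pointed g _ (f.app _ x) := by
      intro x
      unfold pointed
      refine congrArg₂ (· - ·) rfl ?_
      exact congrArg (g.app _) (map_zero (f.app _).hom)
    rcases hX with ⟨⟨H⟩⟩ | ⟨⟨H⟩⟩
    · obtain ⟨b, hb⟩ := boundary_of_homotopy H c hc
      rw [e] at hb
      exact ⟨b, hb.trans (congrArg (_ - ·) (sub_zero c))⟩
    · obtain ⟨b, hb⟩ := boundary_of_homotopy H c hc
      rw [e] at hb
      refine ⟨-b, ?_⟩
      refine (map_neg ((C P).d (n + 1) n).hom b).trans ((congrArg (- ·) hb).trans ?_)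
      exact (neg_sub _ _).trans (congrArg (_ - ·) (sub_zero c))
  have hQ : ∀ {n : ℕ} (y : Q.obj (op ⦋n⦌)), Faces0 Q y →
      ∃ b : Q.obj (op ⦋n + 1⦌), (C Q).d (n + 1) n b = f.app _ (pointed g _ y) - y := by
    intro n y hy
    have e : ((g ≫ U f).app _ y : Q.obj (op ⦋n⦌)) -
        ((g ≫ U f).app _ (0 : Q.obj (op ⦋n⦌)) : Q.obj (op ⦋n⦌)) = f.app _ (pointed g _ y) := by
      unfold pointed
      exact (map_sub (f.app (op ⦋n⦌)).hom _ _).symm
    rcases hY with ⟨⟨H⟩⟩ | ⟨⟨H⟩⟩
    · obtain ⟨b, hb⟩ := boundary_of_homotopy H y hy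
      rw [e] at hb
      exact ⟨b, hb.trans (congrArg₂ HSub.hSub rfl (sub_zero y))⟩
    · obtain ⟨b, hb⟩ := boundary_of_homotopy H y hy
      rw [e] at hb
      refine ⟨-b, ?_⟩
      refine (map_neg ((C Q).d (n + 1) n).hom b).trans ((congrArg (- ·) hb).trans ?_)
      exact (neg_sub _ _).trans (congrArg₂ HSub.hSub rfl (sub_zero y))
  refine ⟨fun n => quasiIsoAt_of_elements _ (ChainComplex.prev ℕ n) rfl ?_ ?_⟩
  · intro (x : P.obj (op ⦋n⦌)) hx hyex
    obtain ⟨y, hy⟩ : ∃ y : Q.obj (op ⦋n + 1⦌), (C Q).d (n + 1) n y = f.app _ x := hyex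
    obtain ⟨c, a, hc, hca⟩ := exists_faces0 (P := P) x hx
    have hfc := faces0_app f hc
    have hd : (C Q).d (n + 1) n (y + f.app _ a) = f.app _ c := by
      refine (map_add ((C Q).d (n + 1) n).hom _ _).trans ?_
      refine (congrArg₂ (· + ·) hy ((ConcreteCategory.congr_hom
        (((alternatingFaceMapComplex AddCommGrpCat.{u}).map f).comm (n + 1) n) a).trans
          ((congrArg _ hca).trans (map_sub (f.app (op ⦋n⦌)).hom c x)))).trans ?_
      exact add_sub_cancel _ _
    let e : Q.obj (op ⦋n + 1⦌) := (DoldKan.P (X := Q) (n + 1)).f (n + 1) (y + f.app _ a)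
    have he : ∀ i : Fin (n + 1), Q.δ i.succ e = 0 := fun i =>
      ConcreteCategory.congr_hom ((HigherFacesVanish.of_P (X := Q) (n + 1) n) i (by omega)) _
    have he0 : Q.δ 0 e = f.app _ c := by
      rw [← d_eq_δ_zero e he]
      refine (ConcreteCategory.congr_hom ((DoldKan.P (X := Q) (n + 1)).comm (n + 1) n)
        (y + f.app _ a)).trans ?_
      rw [ConcreteCategory.comp_apply]
      exact (congrArg _ hd).trans (P_apply_eq_self _ _ hfc)
    have hge : (C P).d (n + 1) n (pointed g _ e) = pointed g _ (f.app _ c) := by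
      rw [d_eq_δ_zero _ fun i => by rw [pointed_δ, he i, pointed_zero], pointed_δ, he0]
    obtain ⟨b, hb⟩ := hP c hc
    refine ⟨pointed g _ e - b - a, ?_⟩
    rw [map_sub, map_sub, hge, hb, hca]
    exact (congrArg (· - (c - x)) (sub_sub_cancel _ _)).trans (sub_sub_cancel _ _)
  · intro (y : Q.obj (op ⦋n⦌)) hy
    obtain ⟨c, a, hc, hca⟩ := exists_faces0 (P := Q) y hy
    obtain ⟨b, hb⟩ := hQ c hc
    refine ⟨pointed g _ c, -(b + a), cycle_of_faces0 _ (faces0_pointed g hc), ?_⟩
    refine (congrArg (fun t : Q.obj (op ⦋n⦌) => f.app _ (pointed g _ c) + t) ((map_neg ((C Q).d (n + 1) n).hom _).trans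
      (congrArg (- ·) ((map_add ((C Q).d (n + 1) n).hom b a).trans
        (congrArg₂ (· + ·) hb hca))))).trans ?_
    abel

end

end Groth.AbFill
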