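import Mathlib
import Groth.Agent.Lib.Cosk.Basic

/-!
# Homotopies between maps of coskeleta
-/

set_option autoImplicit false

universe u v

namespace Groth.Cosk

open CategoryTheory CategoryTheory.Limits Opposite Simplicial

variable {E : Type u} [Category.{v} E] {n : ℕ}

theorem agree_comp {X X' : SimplicialObject E} (f g : X ⟶ X')
    (h : ∀ i : ℕ, i < n → f.app (op ⦋i⦌) = g.app (op ⦋i⦌)) {k l : ℕ} (hk : k ≤ n) (hl : l ≤ n)
    (θ : (⦋l⦌ : SimplexCategory) ⟶ ⦋k⦌) (hθ : ¬ ∃ e : l = k, θ = eqToHom (by rw [e])) :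
    X.map θ.op ≫ f.app (op ⦋l⦌) = X.map θ.op ≫ g.app (op ⦋l⦌) := by
  rcases eq_id_or_lt hk hl θ with h' | h' | h' | ⟨r, p, q, hr, rfl⟩
  · rw [f.naturality, g.naturality, h k h']
  · rw [h l h']
  · exact absurd h' hθ
  · rw [op_comp, Functor.map_comp, Category.assoc, Category.assoc, f.naturality, g.naturality, h r hr]

open Classical in
/-- The `0`-or-`1` family of maps attached to a pair of maps. -/
noncomputable def pick {X X' : SimplicialObject E} (f g : X ⟶ X') {k : ℕ}
    (α : (⦋k⦌ : SimplexCategory) ⟶ ⦋1⦌) : X.obj (op ⦋k⦌) ⟶ X'.obj (op ⦋k⦌) :=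
  if α = SimplexCategory.const _ _ 0 then f.app _ else g.app _

theorem pick_nat {X X' : SimplicialObject E} (f g : X ⟶ X')
    (h : ∀ i : ℕ, i < n → f.app (op ⦋i⦌) = g.app (op ⦋i⦌)) {k l : ℕ} (hk : k ≤ n) (hl : l ≤ n)
    (θ : (⦋l⦌ : SimplexCategory) ⟶ ⦋k⦌) (α : (⦋k⦌ : SimplexCategory) ⟶ ⦋1⦌) :
    X.map θ.op ≫ pick f g (θ ≫ α) = pick f g α ≫ X'.map θ.op := by
  by_cases hθ : ∃ e : l = k, θ = eqToHom (by rw [e])
  · obtain ⟨rfl, rfl⟩ := hθ
    simp
  · have ha := agree_comp f g h hk hl θ hθ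
    have l1 : X.map θ.op ≫ pick f g (θ ≫ α) = X.map θ.op ≫ f.app _ := by
      unfold pick
      split_ifs
      · rfl
      · exact ha.symm
    rw [l1]
    unfold pick
    split_ifs
    · exact f.naturality _
    · rw [ha]
      exact g.naturality _

variable [∀ (F : (SimplexCategory.Truncated n)ᵒᵖ ⥤ E),
    (SimplexCategory.Truncated.inclusion n).op.HasRightKanExtension F]

/-- The counit of the coskeleton adjunction in one degree. -/
noncomputable def eps (X : SimplicialObject E) (j : (SimplexCategory.Truncated n)ᵒᵖ) :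
    ((SimplicialObject.cosk n).obj X).obj ((SimplexCategory.Truncated.inclusion n).op.obj j) ⟶
      X.obj ((SimplexCategory.Truncated.inclusion n).op.obj j) :=
  ((SimplexCategory.Truncated.inclusion n).op.ranCounit.app
    ((SimplicialObject.truncation n).obj X)).app j

theorem eps_nat (X : SimplicialObject E) {i j : (SimplexCategory.Truncated n)ᵒᵖ} (φ : i ⟶ j) :
    ((SimplicialObject.cosk n).obj X).map ((SimplexCategory.Truncated.inclusion n).op.map φ) ≫
      eps X j = eps X i ≫ X.map ((SimplexCategory.Truncated.inclusion n).op.map φ) :=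
  ((SimplexCategory.Truncated.inclusion n).op.ranCounit.app
    ((SimplicialObject.truncation n).obj X)).naturality φ

theorem eps_map {X X' : SimplicialObject E} (f : X ⟶ X') (j : (SimplexCategory.Truncated n)ᵒᵖ) :
    ((SimplicialObject.cosk n).map f).app ((SimplexCategory.Truncated.inclusion n).op.obj j) ≫
      eps X' j = eps X j ≫ f.app ((SimplexCategory.Truncated.inclusion n).op.obj j) :=
  congr_app ((SimplexCategory.Truncated.inclusion n).op.ranCounit.naturality
    ((SimplicialObject.truncation n).map f)) j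

variable [HasFiniteLimits E]

/-- The switching map `[m + 1] ⟶ [1]`. -/
def switch {m : ℕ} (i : Fin (m + 1)) : (⦋m + 1⦌ : SimplexCategory) ⟶ ⦋1⦌ :=
  SimplexCategory.Hom.mk
    ⟨fun j => if (j : ℕ) ≤ (i : ℕ) then 0 else 1, fun a b hab => by
      dsimp only
      split_ifs with h₁ h₂ h₂
      · exact le_rfl
      · exact Fin.zero_le _
      · exact absurd ((Fin.le_iff_val_le_val.1 hab).trans h₂) h₁
      · exact le_rfl⟩

omit [HasFiniteLimits E] in
theorem switch_comp {m l : ℕ} (θ : (⦋l + 1⦌ : SimplexCategory) ⟶ ⦋m + 1⦌) (j : Fin (m + 1))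
    (j' : Fin (l + 1)) (h : ∀ a, ((θ.toOrderHom a : ℕ) ≤ j ↔ (a : ℕ) ≤ j')) :
    θ ≫ switch j = switch j' := by
  ext a : 3
  change (if ((θ.toOrderHom a : ℕ) ≤ j) then (0 : Fin 2) else 1) = if (a : ℕ) ≤ j' then 0 else 1
  simp only [h]

theorem finite_structuredArrow (m : SimplexCategoryᵒᵖ) :
    Finite (StructuredArrow m (SimplexCategory.Truncated.inclusion n).op) ∧
    ∀ a b : StructuredArrow m (SimplexCategory.Truncated.inclusion n).op, Finite (a ⟶ b) := by
  refine ⟨?_, fun a b => ?_⟩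
  · refine Finite.of_surjective
      (fun z : Σ k : Fin (n + 1), ((⦋(k : ℕ)⦌ : SimplexCategory) ⟶ m.unop) =>
        (StructuredArrow.mk (Y := op (⟨⦋(z.1 : ℕ)⦌, Nat.le_of_lt_succ z.1.2⟩ :
          SimplexCategory.Truncated n)) z.2.op :
          StructuredArrow m (SimplexCategory.Truncated.inclusion n).op)) ?_
    intro a
    obtain ⟨⟨⟨⟩⟩, ⟨⟨k, hk⟩⟩, φ⟩ := a
    exact ⟨⟨⟨k.len, Nat.lt_succ_of_le hk⟩, φ.unop⟩, rfl⟩
  · exact Finite.of_injective (fun φ => ⇑φ.right.unop.hom.toOrderHom) fun φ ψ h => by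
      ext
      apply Quiver.Hom.unop_inj
      apply ObjectProperty.hom_ext
      exact SimplexCategory.Hom.ext _ _ (DFunLike.coe_injective h)

theorem hasPointwise (F : (SimplexCategory.Truncated n)ᵒᵖ ⥤ E) :
    (SimplexCategory.Truncated.inclusion n).op.HasPointwiseRightKanExtension F := fun m => by
  obtain ⟨h₁, h₂⟩ := finite_structuredArrow (n := n) m
  have : Fintype (StructuredArrow m (SimplexCategory.Truncated.inclusion n).op) := Fintype.ofFinite _
  have : ∀ a b : StructuredArrow m (SimplexCategory.Truncated.inclusion n).op, Fintype (a ⟶ b) :=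
    fun a b => @Fintype.ofFinite _ (h₂ a b)
  have : FinCategory (StructuredArrow m (SimplexCategory.Truncated.inclusion n).op) :=
    { fintypeObj := inferInstance, fintypeHom := this }
  unfold Functor.HasPointwiseRightKanExtensionAt
  infer_instance

omit [HasFiniteLimits E] in
theorem δ_switch_le {m : ℕ} (i : Fin (m + 2)) (j : Fin (m + 1)) (hij : i ≤ j.castSucc) :
    SimplexCategory.δ i.castSucc ≫ switch j.succ = switch j := switch_comp _ _ _ fun a => by
  rw [Fin.le_iff_val_le_val, Fin.val_castSucc] at hij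
  change ((i.castSucc.succAbove a : Fin _) : ℕ) ≤ _ ↔ _
  rw [Fin.val_succ]
  unfold Fin.succAbove
  split_ifs with h <;> simp only [Fin.lt_def, Fin.val_castSucc, Fin.val_succ] at h ⊢ <;> omega

theorem δ_switch_gt {m : ℕ} (i : Fin (m + 2)) (j : Fin (m + 1)) (hij : j.castSucc < i) :
    SimplexCategory.δ i.succ ≫ switch j.castSucc = switch j := switch_comp _ _ _ fun a => by
  rw [Fin.lt_def, Fin.val_castSucc] at hij
  change ((i.succ.succAbove a : Fin _) : ℕ) ≤ _ ↔ _
  rw [Fin.val_castSucc]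
  unfold Fin.succAbove
  split_ifs with h <;> simp only [Fin.lt_def, Fin.val_castSucc, Fin.val_succ] at h ⊢ <;> omega

theorem δ_switch_self {m : ℕ} (j : Fin (m + 1)) :
    SimplexCategory.δ j.castSucc.succ ≫ switch j.succ =
      SimplexCategory.δ j.castSucc.succ ≫ switch j.castSucc := by
  ext a : 3
  change (if ((j.castSucc.succ.succAbove a : Fin _) : ℕ) ≤ (j.succ : ℕ) then (0 : Fin 2) else 1) =
    if ((j.castSucc.succ.succAbove a : Fin _) : ℕ) ≤ (j.castSucc : ℕ) then 0 else 1
  unfold Fin.succAbove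
  rw [Fin.val_succ, Fin.val_castSucc]
  split_ifs <;> simp only [Fin.lt_def, Fin.val_castSucc, Fin.val_succ] at * <;> first | rfl | omega

theorem σ_switch_le {m : ℕ} (i j : Fin (m + 1)) (hij : i ≤ j) :
    SimplexCategory.σ i.castSucc ≫ switch j = switch j.succ := switch_comp _ _ _ fun a => by
  rw [Fin.le_iff_val_le_val] at hij
  change ((i.castSucc.predAbove a : Fin _) : ℕ) ≤ _ ↔ _
  rw [Fin.val_succ]
  unfold Fin.predAbove
  split_ifs with h <;>
    simp only [Fin.lt_def, Fin.val_castSucc, Fin.val_succ, Fin.val_pred, Fin.coe_castPred] at h ⊢ <;> omega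

theorem σ_switch_lt {m : ℕ} (i j : Fin (m + 1)) (hij : j ≤ i) :
    SimplexCategory.σ i.succ ≫ switch j = switch j.castSucc := switch_comp _ _ _ fun a => by
  rw [Fin.le_iff_val_le_val] at hij
  change ((i.succ.predAbove a : Fin _) : ℕ) ≤ _ ↔ _
  rw [Fin.val_castSucc]
  unfold Fin.predAbove
  split_ifs with h <;>
    simp only [Fin.lt_def, Fin.val_castSucc, Fin.val_succ, Fin.val_pred, Fin.coe_castPred] at h ⊢ <;> omega

theorem nonempty_homotopy_cosk {X X' : SimplicialObject E} (f g : X ⟶ X')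
    (h : ∀ i : ℕ, i < n → f.app (op ⦋i⦌) = g.app (op ⦋i⦌)) :
    Nonempty (SimplicialObject.Homotopy ((SimplicialObject.cosk n).map f)
      ((SimplicialObject.cosk n).map g)) := by
  have := hasPointwise (n := n) (E := E)
  let W := (SimplicialObject.cosk n).obj X
  let Y := (SimplicialObject.cosk n).obj X'
  let ι := (SimplexCategory.Truncated.inclusion n).op
  let hY : ∀ m, IsLimit ((Functor.RightExtension.mk Y
      (ι.ranCounit.app ((SimplicialObject.truncation n).obj X'))).coneAt m) :=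
    ι.isPointwiseRightKanExtensionRanCounit ((SimplicialObject.truncation n).obj X')
  let s : ∀ (m : ℕ) (_ : (⦋m⦌ : SimplexCategory) ⟶ ⦋1⦌),
      Cone (StructuredArrow.proj (op ⦋m⦌) ι ⋙ (SimplicialObject.truncation n).obj X') :=
    fun m α =>
      { pt := W.obj (op ⦋m⦌)
        π :=
          { app := fun a => W.map a.hom ≫ eps X a.right ≫ pick f g (a.hom.unop ≫ α)
            naturality := fun a b φ => by
              change 𝟙 _ ≫ (W.map b.hom ≫ eps X b.right ≫ pick f g (b.hom.unop ≫ α)) =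
                (W.map a.hom ≫ eps X a.right ≫ pick f g (a.hom.unop ≫ α)) ≫ X'.map (ι.map φ.right)
              rw [Category.id_comp, Category.assoc, Category.assoc]
              have e : b.hom = a.hom ≫ ι.map φ.right := (StructuredArrow.w φ).symm
              rw [e, Functor.map_comp, Category.assoc, ← Category.assoc (W.map (ι.map φ.right)),
                eps_nat X φ.right, Category.assoc]
              congr 2
              exact pick_nat f g h a.right.unop.2 b.right.unop.2 φ.right.unop.hom (a.hom.unop ≫ α) } }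
  let H : ∀ (m : ℕ) (_ : (⦋m⦌ : SimplexCategory) ⟶ ⦋1⦌), W.obj (op ⦋m⦌) ⟶ Y.obj (op ⦋m⦌) :=
    fun m α => (hY (op ⦋m⦌)).lift (s m α)
  have hfac : ∀ (m : ℕ) (α : (⦋m⦌ : SimplexCategory) ⟶ ⦋1⦌) (a : StructuredArrow (op ⦋m⦌) ι),
      H m α ≫ Y.map a.hom ≫ eps X' a.right = W.map a.hom ≫ eps X a.right ≫ pick f g (a.hom.unop ≫ α) :=
    fun m α a => (hY (op ⦋m⦌)).fac (s m α) a
  have hext : ∀ (m : ℕ) (A : E) (p q : A ⟶ Y.obj (op ⦋m⦌)),
      (∀ a : StructuredArrow (op ⦋m⦌) ι, p ≫ Y.map a.hom ≫ eps X' a.right =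
        q ≫ Y.map a.hom ≫ eps X' a.right) → p = q :=
    fun m A p q hh => (hY (op ⦋m⦌)).hom_ext hh
  have nat : ∀ (m l : ℕ) (θ : (⦋l⦌ : SimplexCategory) ⟶ ⦋m⦌) (α : (⦋m⦌ : SimplexCategory) ⟶ ⦋1⦌),
      H m α ≫ Y.map θ.op = W.map θ.op ≫ H l (θ ≫ α) := by
    intro m l θ α
    refine hext l _ _ _ fun a => ?_
    rw [Category.assoc, Category.assoc, hfac, ← Category.assoc (Y.map θ.op), ← Functor.map_comp,
      ← Category.assoc (W.map θ.op), ← Functor.map_comp]
    have := hfac m α (StructuredArrow.mk (θ.op ≫ a.hom))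
    refine this.trans ?_
    simp only [StructuredArrow.mk_right, StructuredArrow.mk_hom_eq_self, unop_comp, Quiver.Hom.unop_op,
      Category.assoc]
  have hconst : ∀ (m : ℕ) (F : X ⟶ X') (α : (⦋m⦌ : SimplexCategory) ⟶ ⦋1⦌),
      (∀ (k : ℕ) (θ : (⦋k⦌ : SimplexCategory) ⟶ ⦋m⦌), pick f g (θ ≫ α) = F.app _) →
        H m α = ((SimplicialObject.cosk n).map F).app (op ⦋m⦌) := by
    intro m F α hF
    refine hext m _ _ _ fun a => ?_
    rw [hfac, ← Category.assoc (((SimplicialObject.cosk n).map F).app _),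
      ← ((SimplicialObject.cosk n).map F).naturality, Category.assoc, eps_map F a.right]
    exact congrArg (fun z => W.map a.hom ≫ eps X a.right ≫ z) (hF _ a.hom.unop)
  have h0 : ∀ m, H m (SimplexCategory.const _ _ 0) = ((SimplicialObject.cosk n).map f).app (op ⦋m⦌) :=
    fun m => hconst m f _ fun k θ => if_pos (by ext; rfl)
  have h1 : ∀ m, H m (SimplexCategory.const _ _ 1) = ((SimplicialObject.cosk n).map g).app (op ⦋m⦌) :=
    fun m => hconst m g _ fun k θ => by
      refine if_neg fun e => ?_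
      have h2 : (1 : Fin 2) = 0 := congrArg (fun z => z.toOrderHom 0) e
      exact absurd h2 (by decide)
  let hh : ∀ {m : ℕ} (_ : Fin (m + 1)), W.obj (op ⦋m⦌) ⟶ Y.obj (op ⦋m + 1⦌) :=
    fun {m} i => W.σ i ≫ H (m + 1) (switch i)
  have hδ : ∀ {m : ℕ} (i : Fin (m + 1)) (j : Fin (m + 2)),
      hh i ≫ Y.δ j = W.map (SimplexCategory.δ j ≫ SimplexCategory.σ i).op ≫
        H m (SimplexCategory.δ j ≫ switch i) := by
    intro m i j
    rw [op_comp, Functor.map_comp, Category.assoc, Category.assoc]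
    exact congrArg (W.map (SimplexCategory.σ i).op ≫ ·) (nat (m + 1) m (SimplexCategory.δ j) (switch i))
  have hσ : ∀ {m : ℕ} (i : Fin (m + 1)) (j : Fin (m + 2)),
      hh i ≫ Y.σ j = W.map (SimplexCategory.σ j ≫ SimplexCategory.σ i).op ≫
        H (m + 2) (SimplexCategory.σ j ≫ switch i) := by
    intro m i j
    rw [op_comp, Functor.map_comp, Category.assoc, Category.assoc]
    exact congrArg (W.map (SimplexCategory.σ i).op ≫ ·)
      (nat (m + 1) (m + 2) (SimplexCategory.σ j) (switch i))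
  refine ⟨{ h := hh, h_zero_comp_δ_zero := ?_, h_last_comp_δ_last := ?_,
            h_succ_comp_δ_castSucc_of_lt := ?_, h_succ_comp_δ_castSucc_succ := ?_,
            h_castSucc_comp_δ_succ_of_lt := ?_, h_comp_σ_castSucc_of_le := ?_,
            h_comp_σ_succ_of_lt := ?_ }⟩
  · intro m
    have e : SimplexCategory.δ (0 : Fin (m + 2)) ≫ switch (0 : Fin (m + 1)) =
        SimplexCategory.const _ _ 1 := by
      ext j; simp [switch, SimplexCategory.δ]
    rw [hδ, e, h1, dsimp% SimplexCategory.δ_comp_σ_self (i := (0 : Fin (m + 1)))]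
    simp
  · intro m
    have e : SimplexCategory.δ (Fin.last (m + 1)) ≫ switch (Fin.last m) =
        SimplexCategory.const _ _ 0 := by
      ext j; simp [switch, SimplexCategory.δ]
      omega
    rw [hδ, e, h0, dsimp% SimplexCategory.δ_comp_σ_succ (i := Fin.last m)]
    simp
  · intro m i j hij
    have e : SimplexCategory.δ i.castSucc ≫ switch j.succ = switch j := δ_switch_le i j hij
    rw [hδ, e, SimplexCategory.δ_comp_σ_of_le hij, op_comp, Functor.map_comp, Category.assoc]
    rfl
  · intro m j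
    have e : SimplexCategory.δ j.castSucc.succ ≫ switch j.succ =
        SimplexCategory.δ j.castSucc.succ ≫ switch j.castSucc := δ_switch_self j
    rw [hδ, hδ, e]
    congr 3
    have h₂ := SimplexCategory.δ_comp_σ_succ (i := j.castSucc)
    have h₁ := SimplexCategory.δ_comp_σ_self (i := j.succ)
    rw [h₂]
    simpa using h₁
  · intro m i j hij
    have e : SimplexCategory.δ i.succ ≫ switch j.castSucc = switch j := δ_switch_gt i j hij
    rw [hδ, e, SimplexCategory.δ_comp_σ_of_gt hij, op_comp, Functor.map_comp, Category.assoc]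
    rfl
  · intro m i j hij
    have e : SimplexCategory.σ i.castSucc ≫ switch j = switch j.succ := σ_switch_le i j hij
    rw [hσ, e, SimplexCategory.σ_comp_σ hij, op_comp, Functor.map_comp, Category.assoc]
    rfl
  · intro m i j hij
    have e : SimplexCategory.σ i.succ ≫ switch j = switch j.castSucc := σ_switch_lt i j hij
    rw [hσ, e, ← SimplexCategory.σ_comp_σ hij, op_comp, Functor.map_comp, Category.assoc]
    rfl

end Groth.Cosk
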