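import Mathlib
import Groth.Agent.Lib.Cosk.Basic

/-!
# Maps of coskeletal simplicial sets bijective below `n` and surjective at `n`
-/

set_option autoImplicit false

universe u

namespace Groth.Cosk

open CategoryTheory Opposite MonoidalCategory Simplicial Limits

variable {n m : ℕ}

/-- A split epi-mono factorisation of a map of the simplex category. -/
theorem exists_split_fac {k : ℕ} (α : (⦋k⦌ : SimplexCategory) ⟶ ⦋m⦌) :
    ∃ (r : ℕ) (e : (⦋k⦌ : SimplexCategory) ⟶ ⦋r⦌) (s : (⦋r⦌ : SimplexCategory) ⟶ ⦋k⦌),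
      r ≤ k ∧ Mono (s ≫ α) ∧ e ≫ s ≫ α = α := by
  let e := factorThruImage α
  have : IsSplitEpi e := isSplitEpi_of_epi e
  refine ⟨(image α).len, e, section_ e, SimplexCategory.len_le_of_mono (section_ e), ?_, ?_⟩
  · have : section_ e ≫ α = image.ι α :=
      calc section_ e ≫ α = section_ e ≫ e ≫ image.ι α := by rw [image.fac]
        _ = image.ι α := by simp
    exact this.symm ▸ inferInstanceAs (Mono (image.ι α))
  · calc e ≫ section_ e ≫ α = e ≫ section_ e ≫ e ≫ image.ι α := by rw [image.fac]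
      _ = e ≫ image.ι α := by simp
      _ = α := image.fac α

section

variable {U V : SSet.{u}} (f : V ⟶ U) (x : U.obj (op ⦋m⦌))

open SSet (stdSimplex)

/-- Candidate values of a lift at a simplex `α`. -/
def Good (n : ℕ) (t : ((∂Δ[m] : (Δ[m] : SSet.{u}).Subcomplex) : SSet.{u}) ⟶ V) {k : ℕ}
    (α : (⦋k⦌ : SimplexCategory) ⟶ ⦋m⦌) (y : V.obj (op ⦋k⦌)) : Prop :=
  f.app _ y = U.map α.op x ∧
    (∀ hα : stdSimplex.objEquiv.symm α ∈ (∂Δ[m] : (Δ[m] : SSet.{u}).Subcomplex).obj (op ⦋k⦌),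
      y = t.app _ ⟨_, hα⟩) ∧
    ∀ (r : ℕ) (p : (⦋k⦌ : SimplexCategory) ⟶ ⦋r⦌) (i : (⦋r⦌ : SimplexCategory) ⟶ ⦋m⦌)
      (z : V.obj (op ⦋r⦌)), r < n → p ≫ i = α → f.app _ z = U.map i.op x → y = V.map p.op z

variable {f x} (h1 : ∀ i : ℕ, i < n → Function.Bijective (f.app (op ⦋i⦌)))

include h1

theorem low_uniq {r r' : ℕ} (hr' : r' < n) (i : (⦋r⦌ : SimplexCategory) ⟶ ⦋m⦌)
    (p : (⦋r'⦌ : SimplexCategory) ⟶ ⦋r⦌) {z : V.obj (op ⦋r⦌)} {z' : V.obj (op ⦋r'⦌)}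
    (hz : f.app _ z = U.map i.op x) (hz' : f.app _ z' = U.map (p ≫ i).op x) :
    V.map p.op z = z' := by
  refine (h1 r' hr').1 ?_
  rw [NatTrans.naturality_apply f, hz, hz', op_comp, Functor.map_comp]
  rfl

variable {t : ((∂Δ[m] : (Δ[m] : SSet.{u}).Subcomplex) : SSet.{u}) ⟶ V}
  (ht : ∀ (k : ℕ) (α : (⦋k⦌ : SimplexCategory) ⟶ ⦋m⦌)
    (hα : stdSimplex.objEquiv.symm α ∈ (∂Δ[m] : (Δ[m] : SSet.{u}).Subcomplex).obj (op ⦋k⦌)),
      f.app _ (t.app _ ⟨_, hα⟩) = U.map α.op x)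
  (h2 : Function.Surjective (f.app (op ⦋n⦌)))

theorem canonical {k r r₀ : ℕ} (α : (⦋k⦌ : SimplexCategory) ⟶ ⦋m⦌)
    (p : (⦋k⦌ : SimplexCategory) ⟶ ⦋r⦌) (i : (⦋r⦌ : SimplexCategory) ⟶ ⦋m⦌) (z : V.obj (op ⦋r⦌))
    (hr : r < n) (hp : p ≫ i = α) (hz : f.app _ z = U.map i.op x)
    (e : (⦋k⦌ : SimplexCategory) ⟶ ⦋r₀⦌) (s : (⦋r₀⦌ : SimplexCategory) ⟶ ⦋k⦌) (hr₀ : r₀ < n)
    (he : e ≫ s ≫ α = α) (z₀ : V.obj (op ⦋r₀⦌)) (hz₀ : f.app _ z₀ = U.map (s ≫ α).op x) :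
    V.map p.op z = V.map e.op z₀ := by
  obtain ⟨r', q, s', hr', hmono, hq⟩ := exists_split_fac i
  obtain ⟨z', hz'⟩ := (h1 r' (hr'.trans_lt hr)).2 (U.map (s' ≫ i).op x)
  have e₁ : V.map q.op z' = z := low_uniq h1 hr (s' ≫ i) q hz' (by rw [hq]; exact hz)
  have e₂ : V.map (s ≫ p ≫ q).op z' = z₀ :=
    low_uniq h1 hr₀ (s' ≫ i) _ hz' (by simp only [Category.assoc, hq, hp]; exact hz₀)
  have e₃ : e ≫ s ≫ p ≫ q = p ≫ q := by
    rw [← cancel_mono (s' ≫ i)]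
    simp only [Category.assoc, hq, hp, he]
  rw [← e₁, ← e₂]
  simp only [← types_comp_apply (V.map _), ← Functor.map_comp, ← op_comp, e₃]

include ht h2

theorem exists_good {k : ℕ} (hk : k ≤ n) (α : (⦋k⦌ : SimplexCategory) ⟶ ⦋m⦌) :
    ∃ y, Good f x n t α y := by
  by_cases hlow : ∃ (r : ℕ) (p : (⦋k⦌ : SimplexCategory) ⟶ ⦋r⦌)
      (i : (⦋r⦌ : SimplexCategory) ⟶ ⦋m⦌), r < n ∧ p ≫ i = α
  · obtain ⟨r, p, i, hr, hp⟩ := hlow
    obtain ⟨r₀, e, s, hr₀k, hmono, he⟩ := exists_split_fac α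
    have hr₀ : r₀ < n := by
      have : Mono ((s ≫ p) ≫ i) := by rw [Category.assoc, hp]; exact hmono
      have := mono_of_mono (s ≫ p) i
      exact (SimplexCategory.len_le_of_mono (s ≫ p)).trans_lt hr
    obtain ⟨z₀, hz₀⟩ := (h1 r₀ hr₀).2 (U.map (s ≫ α).op x)
    refine ⟨V.map e.op z₀, ?_, fun hα => ?_, fun r p i z hr hp hz =>
      (canonical h1 α p i z hr hp hz e s hr₀ he z₀ hz₀).symm⟩
    · rw [NatTrans.naturality_apply f, hz₀, ← types_comp_apply (U.map _) (U.map _),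
        ← Functor.map_comp, ← op_comp, he]
    · have hs : stdSimplex.objEquiv.symm (s ≫ α) ∈
          (∂Δ[m] : (Δ[m] : SSet.{u}).Subcomplex).obj (op ⦋r₀⦌) :=
        (∂Δ[m] : (Δ[m] : SSet.{u}).Subcomplex).map s.op hα
      have : z₀ = t.app _ ⟨_, hs⟩ := (h1 r₀ hr₀).1 (hz₀.trans (ht _ _ hs).symm)
      rw [this]
      refine (NatTrans.naturality_apply t e.op ⟨_, hs⟩).symm.trans (congrArg _ (Subtype.ext ?_))
      change stdSimplex.objEquiv.symm (e ≫ s ≫ α) = _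
      rw [he]
  · have hk' : k = n := le_antisymm hk (not_lt.1 fun h => hlow ⟨k, 𝟙 _, α, h, Category.id_comp α⟩)
    by_cases hα : stdSimplex.objEquiv.symm α ∈ (∂Δ[m] : (Δ[m] : SSet.{u}).Subcomplex).obj (op ⦋k⦌)
    · exact ⟨t.app _ ⟨_, hα⟩, ht _ _ hα, fun _ => rfl,
        fun r p i z hr hp _ => absurd ⟨r, p, i, hr, hp⟩ hlow⟩
    · subst hk'
      obtain ⟨y, hy⟩ := h2 (U.map α.op x)
      exact ⟨y, hy, fun h => absurd h hα, fun r p i z hr hp _ => absurd ⟨r, p, i, hr, hp⟩ hlow⟩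

end

open SSet (stdSimplex) in
/-- A map of `n`-coskeletal simplicial sets, bijective below `n` and surjective at `n`, is a
trivial fibration. -/
theorem rlp_I {U V : SSet.{u}} (f : V ⟶ U) [SimplicialObject.IsCoskeletal U n]
    [SimplicialObject.IsCoskeletal V n] (h1 : ∀ i : ℕ, i < n → Function.Bijective (f.app (op ⦋i⦌)))
    (h2 : Function.Surjective (f.app (op ⦋n⦌))) : SSet.modelCategoryQuillen.I.rlp f := by
  intro A B g hg
  obtain ⟨m⟩ := hg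
  refine ⟨fun {t b} sq => ?_⟩
  let x : U.obj (op ⦋m⦌) := SSet.yonedaEquiv b
  have hb : ∀ (k : ℕ) (α : (⦋k⦌ : SimplexCategory) ⟶ ⦋m⦌),
      b.app (op ⦋k⦌) (stdSimplex.objEquiv.symm α) = U.map α.op x := fun k α => by
    have : stdSimplex.objEquiv.symm α =
        (Δ[m] : SSet.{u}).map α.op (stdSimplex.objEquiv.symm (𝟙 ⦋m⦌)) := by
      rw [stdSimplex.map_objEquiv_symm]; simp
    rw [this, NatTrans.naturality_apply b]
    rfl
  have ht : ∀ (k : ℕ) (α : (⦋k⦌ : SimplexCategory) ⟶ ⦋m⦌)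
      (hα : stdSimplex.objEquiv.symm α ∈ (∂Δ[m] : (Δ[m] : SSet.{u}).Subcomplex).obj (op ⦋k⦌)),
      f.app _ (t.app _ ⟨_, hα⟩) = U.map α.op x := fun k α hα => by
    rw [← hb]
    exact congrArg (fun φ => φ.app _ ⟨_, hα⟩) sq.w
  choose G hG using fun (k : ℕ) (hk : k ≤ n) (α : (⦋k⦌ : SimplexCategory) ⟶ ⦋m⦌) =>
    exists_good (f := f) (x := x) h1 ht h2 hk α
  have nat : ∀ (k l : ℕ) (hk : k ≤ n) (hl : l ≤ n) (θ : (⦋l⦌ : SimplexCategory) ⟶ ⦋k⦌)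
      (α : (⦋k⦌ : SimplexCategory) ⟶ ⦋m⦌), G l hl (θ ≫ α) = V.map θ.op (G k hk α) := by
    intro k l hk hl θ α
    rcases eq_id_or_lt hk hl θ with h' | h' | ⟨rfl, rfl⟩ | ⟨r, p, q, hr, rfl⟩
    · exact (hG l hl (θ ≫ α)).2.2 k θ α _ h' rfl (hG k hk α).1
    · exact (low_uniq h1 h' α θ (hG k hk α).1 (hG l hl (θ ≫ α)).1).symm
    · simp
    · rw [op_comp, Functor.map_comp, types_comp_apply]
      refine (hG l hl _).2.2 r p (q ≫ α) _ hr (Category.assoc _ _ _).symm ?_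
      rw [NatTrans.naturality_apply f, (hG k hk α).1, op_comp, Functor.map_comp]
      rfl
  obtain ⟨Φ, hΦ⟩ := exists_hom (n := n) (U := V) (W := (Δ[m] : SSet.{u}))
    (fun k hk => ↾fun a => G k hk (stdSimplex.objEquiv a)) (fun k l hk hl θ => by
      ext a
      exact nat k l hk hl θ (stdSimplex.objEquiv a))
  refine ⟨⟨{ l := Φ, fac_left := ?_, fac_right := ?_ }⟩⟩
  · refine hom_ext (n := n) fun k hk => ?_
    ext ⟨a, ha⟩
    change Φ.app _ a = t.app _ ⟨a, ha⟩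
    rw [hΦ k hk]
    obtain ⟨α, rfl⟩ := stdSimplex.objEquiv.symm.surjective a
    exact ((congrArg (G k hk) (Equiv.apply_symm_apply _ α)).trans ((hG k hk α).2.1 ha))
  · refine hom_ext (n := n) fun k hk => ?_
    ext a
    change f.app _ (Φ.app _ a) = b.app _ a
    rw [hΦ k hk]
    obtain ⟨α, rfl⟩ := stdSimplex.objEquiv.symm.surjective a
    refine (congrArg (fun z => f.app _ (G k hk z)) (Equiv.apply_symm_apply _ α)).trans ?_
    exact (hG k hk α).1.trans (hb k α).symm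

end Groth.Cosk
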